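import Cfsg.Agent.PSLBinary.Unipotent

/-!
Binary coset actions of `PSL₂(q)`: stabilisers of order divisible by the characteristic.
-/

set_option autoImplicit false
set_option linter.unusedSectionVars false

namespace CfsgLib.PSLBinary

variable {F : Type*} [Field F] [Finite F] (p : ℕ) [Fact p.Prime] [CharP F p]

theorem exists_sylow_upper : ∃ P : Sylow p (PG F), (P : Subgroup (PG F)) = upper F := by
  cases nonempty_fintype F
  obtain ⟨n, -, hn⟩ := FiniteField.card F p
  rw [← Nat.card_eq_fintype_card] at hn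
  have hU : IsPGroup p (upper F) := IsPGroup.of_card (n := n) (card_upper.trans hn)
  have hp : p.Prime := Fact.out
  have hind : ¬ p ∣ (upper F).index := by
    have h := (upper F).card_mul_index
    rw [card_upper, CfsgLib.Linear.PSLTwo.card_eq, ← mul_assoc, mul_comm (Nat.card F + 1),
      mul_assoc] at h
    rw [Nat.eq_of_mul_eq_mul_left Nat.card_pos h]
    have hpq : p ∣ Nat.card F := hn ▸ dvd_pow_self p n.pos.ne'
    have hq := Finite.one_lt_card (α := F)
    intro hdvd
    rcases (Nat.Prime.dvd_mul hp).1 hdvd with h' | h'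
    · exact hp.not_dvd_one ((Nat.dvd_add_right hpq).1 h')
    · have h'' := h'.trans (Nat.div_dvd_of_dvd (Nat.gcd_dvd_right 2 (Nat.card F - 1)))
      have := Nat.dvd_sub hpq h''
      rw [show Nat.card F - (Nat.card F - 1) = 1 by omega] at this
      exact hp.not_dvd_one this
  exact ⟨hU.toSylow hind, rfl⟩

theorem exists_inH_uu (H : Subgroup (PG F)) (hdvd : p ∣ Nat.card H) :
    ∃ z : F, z ≠ 0 ∧ InH H (uu z) := by
  obtain ⟨y, hy⟩ := exists_prime_orderOf_dvd_card' (G := H) p hdvd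
  have hord : orderOf (y : PG F) = p := by rw [Subgroup.orderOf_coe, hy]
  have hP : IsPGroup p (Subgroup.zpowers (y : PG F)) :=
    IsPGroup.of_card (n := 1) (by rw [Nat.card_zpowers, hord, pow_one])
  obtain ⟨Q, hQ⟩ := hP.exists_le_sylow
  obtain ⟨P, hPU⟩ := exists_sylow_upper (F := F) p
  obtain ⟨c, hc⟩ := MulAction.exists_smul_eq (PG F) Q P
  have hm : c * (y : PG F) * c⁻¹ ∈ upper F := by
    rw [← hPU, ← hc]
    exact ⟨(y : PG F), hQ (Subgroup.mem_zpowers _), rfl⟩
  obtain ⟨z, hz⟩ := hm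
  refine ⟨z, fun e => ?_, hz ▸ inH_conj c (inH_of_mem y.2)⟩
  rw [e, uu_zero] at hz
  have : (y : PG F) = 1 := conj_eq_one_iff.1 hz.symm
  rw [this, orderOf_one] at hord
  exact (Fact.out : p.Prime).ne_one hord.symm

/-- The upper unipotent group and its conjugates give binary actions in characteristic two. -/
theorem binary_conj_upper (h2 : (2 : F) = 0) (H : Subgroup (PG F)) (c : PG F)
    (hc : ∀ g, g ∈ H ↔ c * g * c⁻¹ ∈ upper F) : Binary H := by
  have htr : ∀ {a b d e : F} {h : a * e - b * d = 1}, InH H (pm a b d e h) → a + e = 0 := by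
    intro a b d e h hin
    obtain ⟨k, hk⟩ := hin.exists_conj
    obtain ⟨t, ht⟩ := (hc _).1 hk
    obtain ⟨x, y, z, w, hm, hmeq⟩ := exists_pm (k * c⁻¹)
    have e' : pm a b d e h = pm x y z w hm * uu t * (pm x y z w hm)⁻¹ := by
      rw [← hmeq, ht]; group
    rw [uu, pm_inv, pm_mul, pm_mul, pm_eq_pm_iff] at e'
    rcases e' with ⟨ha, -, -, he⟩ | ⟨ha, -, -, he⟩
    · linear_combination ha + he + 2 * hm + h2
    · linear_combination ha + he - 2 * hm - h2
  refine binary_of_ti ?_ ?_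
  · intro h hh hne d hd g hg
    obtain ⟨t, ht⟩ := (hc h).1 hh
    obtain ⟨s, hs⟩ := (hc _).1 hd
    obtain ⟨u, hu⟩ := (hc g).1 hg
    obtain ⟨x, y, z, w, hm, hmeq⟩ := exists_pm (c * d * c⁻¹)
    have ht0 : t ≠ 0 := fun e => hne (by
      rw [e, uu_zero] at ht
      exact conj_eq_one_iff.1 ht.symm)
    have e' : pm x y z w hm * uu s = uu t * pm x y z w hm := by
      rw [← hmeq, hs, ht]; group
    rw [uu, uu, pm_mul, pm_mul, pm_eq_pm_iff] at e'
    have hz : z = 0 := by
      rcases e' with ⟨ha, -, -, -⟩ | ⟨ha, -, -, -⟩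
      · exact (mul_eq_zero.1 (show t * z = 0 by linear_combination -ha)).resolve_left ht0
      · exact (mul_eq_zero.1 (show t * z = 0 by linear_combination ha - x * h2)).resolve_left ht0
    subst hz
    refine (hc _).2 ⟨u * w * w, ?_⟩
    have hgoal : c * (d⁻¹ * g * d) * c⁻¹ = (pm x y 0 w hm)⁻¹ * uu u * pm x y 0 w hm := by
      rw [← hmeq, hu]; group
    rw [hgoal, uu, uu, pm_inv, pm_mul, pm_mul]
    refine pm_congr ?_ ?_ ?_ ?_
    · linear_combination -hm
    · ring
    · ring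
    · linear_combination -hm
  · intro h hh hne a ha1 hain hha1 hha
    obtain ⟨t, ht⟩ := (hc h).1 hh
    have ht0 : t ≠ 0 := fun e => hne (by
      rw [e, uu_zero] at ht
      exact conj_eq_one_iff.1 ht.symm)
    obtain ⟨x, y, z, w, hm, hmeq⟩ := exists_pm (c * a * c⁻¹)
    have h1 : x + w = 0 := htr (hmeq ▸ inH_conj c hain)
    have h3 : InH H (uu t * pm x y z w hm) := by
      rw [← hmeq, ht, show c * h * c⁻¹ * (c * a * c⁻¹) = c * (h * a) * c⁻¹ by group]
      exact inH_conj c hha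
    rw [uu, pm_mul] at h3
    have hz : z = 0 :=
      (mul_eq_zero.1 (show t * z = 0 by linear_combination htr h3 - h1)).resolve_left ht0
    subst hz
    refine (hc a).2 ⟨x * y, ?_⟩
    rw [hmeq]
    exact (pm_eq_uu (by linear_combination h1 - w * h2)).symm

/-- Stabilisers of order divisible by the characteristic. -/
theorem of_dvd [Fact (4 ≤ Nat.card F)] (H : Subgroup (PG F)) (hH : H ≠ ⊤) (hdvd : p ∣ Nat.card H)
    (hb : Binary H) : p = 2 ∧ ∃ P : Sylow p (PG F), H = P := by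
  obtain ⟨z, hz, hin⟩ := exists_inH_uu p H hdvd
  by_cases hp2 : p = 2
  swap
  · exfalso
    have h2 : (2 : F) ≠ 0 := fun e => hp2 ((Nat.prime_dvd_prime_iff_eq Fact.out Nat.prime_two).1
      ((CharP.cast_eq_zero_iff F p 2).1 (by exact_mod_cast e)))
    by_cases hd : ∃ x : PG F ⧸ H, (∀ t : F, uu t • x = x) ∧
        ∃ (i : F) (hi : i * -i - 0 * 0 = 1), pm i 0 0 (-i) hi • x = x
    · obtain ⟨x, hx, i, hi, hs⟩ := hd
      exact odd_diag hH h2 hx hi hs hb
    · exact odd_transvections hH h2 hz hin (fun x hx i hi e => hd ⟨x, hx, i, hi, e⟩) hb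
  subst hp2
  refine ⟨rfl, ?_⟩
  have h2 : (2 : F) = 0 := by exact_mod_cast CharP.cast_eq_zero F 2
  by_cases hall : ∃ x : PG F ⧸ H, ∀ t : F, uu t • x = x
  swap
  · obtain ⟨x, hx⟩ := hin
    exact absurd hb (two_proper hH h2 hz hx hall)
  obtain ⟨x, hx⟩ := hall
  obtain ⟨P, hP⟩ := exists_sylow_upper (F := F) 2
  have hstab : ∀ g, g • x = x ↔ g ∈ upper F := fun g => stab_eq_upper hH hx (fun s hs hi e => by
    refine two_diag hH h2 hx ?_ hs hi e hb
    rintro rfl
    simp at hi) 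
  obtain ⟨c, rfl⟩ := QuotientGroup.mk_surjective x
  refine ⟨c⁻¹ • P, Subgroup.ext fun g => ?_⟩
  have key : g ∈ H ↔ c * g * c⁻¹ ∈ upper F := by
    rw [← hstab, smul_mk_eq_self_iff]
    simp [mul_assoc]
  rw [key, ← hP]
  show _ ↔ g ∈ ((c⁻¹ • P : Sylow 2 (PG F)) : Subgroup (PG F))
  rw [Sylow.coe_subgroup_smul, Subgroup.mem_pointwise_smul_iff_inv_smul_mem]
  simp [MulAut.smul_def]

/-- Sylow `2`-subgroups give binary actions in characteristic two. -/
theorem binary_sylow_two [CharP F 2] (P : Sylow 2 (PG F)) : Binary (P : Subgroup (PG F)) := by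
  have h2 : (2 : F) = 0 := by exact_mod_cast CharP.cast_eq_zero F 2
  obtain ⟨Q, hQ⟩ := exists_sylow_upper (F := F) 2
  obtain ⟨c, hc⟩ := MulAction.exists_smul_eq (PG F) P Q
  refine binary_conj_upper h2 _ c fun g => ?_
  rw [← hQ, ← hc, Sylow.coe_subgroup_smul, Subgroup.mem_pointwise_smul_iff_inv_smul_mem]
  simp [MulAut.smul_def, mul_assoc]

end CfsgLib.PSLBinary
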