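import Cfsg.Agent.Classical.PSLTwoSub

/-!
Coordinates in `PSL₂(F)`.
-/

set_option autoImplicit false
set_option linter.unusedSectionVars false

namespace CfsgLib.PSLBinary

open Matrix

variable {F : Type*} [Field F]

/-- `PSL₂(F)`. -/
abbrev PG (F : Type*) [Field F] : Type _ := Matrix.ProjectiveSpecialLinearGroup (Fin 2) F

/-- `SL₂(F)`. -/
abbrev SG (F : Type*) [Field F] : Type _ := Matrix.SpecialLinearGroup (Fin 2) F

/-- The element of `PSL₂` given by four entries. -/
def pm (a b c d : F) (h : a * d - b * c = 1) : PG F :=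
  QuotientGroup.mk (⟨!![a, b; c, d], by rw [Matrix.det_fin_two_of]; exact h⟩ : SG F)

theorem exists_pm (g : PG F) : ∃ (a b c d : F) (h : a * d - b * c = 1), g = pm a b c d h := by
  obtain ⟨A, rfl⟩ := QuotientGroup.mk_surjective g
  have h := A.2
  rw [Matrix.det_fin_two] at h
  refine ⟨_, _, _, _, h, congrArg QuotientGroup.mk ?_⟩
  exact Subtype.ext (Matrix.eta_fin_two A.1)

theorem pm_congr {a b c d a' b' c' d' : F} {h : a * d - b * c = 1} {h' : a' * d' - b' * c' = 1}
    (ha : a = a') (hb : b = b') (hc : c = c') (hd : d = d') : pm a b c d h = pm a' b' c' d' h' := by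
  subst ha hb hc hd; rfl

theorem pm_mul {a b c d a' b' c' d' : F} (h : a * d - b * c = 1) (h' : a' * d' - b' * c' = 1) :
    pm a b c d h * pm a' b' c' d' h' =
      pm (a * a' + b * c') (a * b' + b * d') (c * a' + d * c') (c * b' + d * d')
        (by linear_combination (a' * d' - b' * c') * h + h') := by
  show QuotientGroup.mk (_ * _) = _
  refine congrArg QuotientGroup.mk (Subtype.ext ?_)
  show !![a, b; c, d] * !![a', b'; c', d'] = _
  simp

theorem pm_inv {a b c d : F} (h : a * d - b * c = 1) :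
    (pm a b c d h)⁻¹ = pm d (-b) (-c) a (by linear_combination h) := by
  show QuotientGroup.mk (_⁻¹) = _
  refine congrArg QuotientGroup.mk (Subtype.ext ?_)
  show (!![a, b; c, d]).adjugate = _
  rw [Matrix.adjugate_fin_two_of]

theorem pm_eq_pm_iff {a b c d a' b' c' d' : F} {h : a * d - b * c = 1}
    {h' : a' * d' - b' * c' = 1} :
    pm a b c d h = pm a' b' c' d' h' ↔
      (a = a' ∧ b = b' ∧ c = c' ∧ d = d') ∨ (a = -a' ∧ b = -b' ∧ c = -c' ∧ d = -d') := by
  constructor
  · intro e
    have e' := inv_mul_eq_one.2 e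
    rw [pm_inv, pm_mul] at e'
    obtain ⟨r, hr⟩ := (CfsgLib.PSL2Spec.mk_eq_one_iff _).1 e'
    have h00 := congrFun (congrFun hr 0) 0
    have h01 := congrFun (congrFun hr 0) 1
    have h10 := congrFun (congrFun hr 1) 0
    have h11 := congrFun (congrFun hr 1) 1
    simp at h00 h01 h10 h11
    have hr2 : r * r = 1 := by
      linear_combination -r * h00 - (d * a' + -(b * c')) * h11 + (-(c * a') + a * c') * h01 +
        (a' * d' - b' * c') * h + h'
    rcases mul_self_eq_one_iff.1 hr2 with rfl | rfl
    · left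
      refine ⟨?_, ?_, ?_, ?_⟩
      · linear_combination a' * h - a * h00 - b * h10
      · linear_combination b' * h - a * h01 - b * h11
      · linear_combination c' * h - c * h00 - d * h10
      · linear_combination d' * h - c * h01 - d * h11
    · right
      refine ⟨?_, ?_, ?_, ?_⟩
      · linear_combination -a' * h + a * h00 + b * h10
      · linear_combination -b' * h + a * h01 + b * h11
      · linear_combination -c' * h + c * h00 + d * h10
      · linear_combination -d' * h + c * h01 + d * h11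
  · rintro (⟨ha, hb, hc, hd⟩ | ⟨ha, hb, hc, hd⟩)
    · exact pm_congr ha hb hc hd
    · subst ha hb hc hd
      refine inv_mul_eq_one.1 ?_
      rw [pm_inv, pm_mul]
      refine (CfsgLib.PSL2Spec.mk_eq_one_iff _).2 ⟨-1, ?_⟩
      ext i j
      fin_cases i <;> fin_cases j <;> simp <;>
        first | linear_combination h' | linear_combination -h' | ring

theorem one_eq_pm : (1 : PG F) = pm 1 0 0 1 (by ring) := by
  refine congrArg QuotientGroup.mk (Subtype.ext ?_)
  exact Matrix.one_fin_two

theorem pm_eq_one_iff {a b c d : F} {h : a * d - b * c = 1} :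
    pm a b c d h = 1 ↔ b = 0 ∧ c = 0 ∧ a = d := by
  rw [one_eq_pm, pm_eq_pm_iff]
  constructor
  · rintro (⟨h1, h2, h3, h4⟩ | ⟨h1, h2, h3, h4⟩)
    · exact ⟨h2, h3, h1.trans h4.symm⟩
    · exact ⟨by simpa using h2, by simpa using h3, h1.trans h4.symm⟩
  · rintro ⟨rfl, rfl, rfl⟩
    rcases mul_self_eq_one_iff.1 (show a * a = 1 by linear_combination h) with rfl | rfl <;> simp

/-- Upper unipotents. -/
def uu (t : F) : PG F := pm 1 t 0 1 (by ring)

/-- Lower unipotents. -/
def ll (t : F) : PG F := pm 1 0 t 1 (by ring)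

theorem uu_mul (s t : F) : uu s * uu t = uu (s + t) := by
  rw [uu, uu, pm_mul]
  exact pm_congr (by ring) (by ring) (by ring) (by ring)

theorem uu_zero : uu (0 : F) = 1 := one_eq_pm.symm

theorem uu_inv (t : F) : (uu t)⁻¹ = uu (-t) := by
  apply inv_eq_of_mul_eq_one_right
  rw [uu_mul, add_neg_cancel, uu_zero]

theorem uu_injective : Function.Injective (uu : F → PG F) := by
  intro s t h
  rcases pm_eq_pm_iff.1 h with ⟨-, h, -, -⟩ | ⟨h1, h, -, -⟩
  · exact h
  · rw [h]
    linear_combination (-t) * h1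

theorem uu_eq_one_iff {t : F} : uu t = 1 ↔ t = 0 := by
  rw [← uu_zero, uu_injective.eq_iff]

/-- A subgroup containing all upper unipotents and an element moving `∞` is everything. -/
theorem eq_top_of_upper (N : Subgroup (PG F)) (hU : ∀ t : F, uu t ∈ N) {a b c d : F}
    {h : a * d - b * c = 1} (hg : pm a b c d h ∈ N) (hc : c ≠ 0) : N = ⊤ := by
  have hw : pm 0 (-c⁻¹) c 0 (by field_simp; ring) ∈ N := by
    have : pm 0 (-c⁻¹) c 0 (by field_simp; ring) = uu (-(a / c)) * pm a b c d h * uu (-(d / c)) := by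
      rw [uu, uu, pm_mul, pm_mul]
      refine pm_congr ?_ ?_ ?_ ?_ <;> field_simp
      · ring
      · linear_combination h
      · ring
      · ring
    rw [this]
    exact N.mul_mem (N.mul_mem (hU _) hg) (hU _)
  have hL : ∀ t : F, ll t ∈ N := by
    intro t
    have : ll t = pm 0 (-c⁻¹) c 0 (by field_simp; ring) * uu (-t / c ^ 2) *
        (pm 0 (-c⁻¹) c 0 (by field_simp; ring))⁻¹ := by
      rw [ll, uu, pm_inv, pm_mul, pm_mul]
      refine pm_congr ?_ ?_ ?_ ?_ <;> field_simp <;> ring
    rw [this]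
    exact N.mul_mem (N.mul_mem hw (hU _)) (N.inv_mem hw)
  have main : ∀ (x y z w : F) (hx : x * w - y * z = 1), z ≠ 0 → pm x y z w hx ∈ N := by
    intro x y z w hx hz
    have : pm x y z w hx = uu ((x - 1) / z) * ll z * uu ((w - 1) / z) := by
      rw [ll, uu, uu, pm_mul, pm_mul]
      refine pm_congr ?_ ?_ ?_ ?_ <;> field_simp
      · ring
      · linear_combination -hx
      · ring
      · ring
    rw [this]
    exact N.mul_mem (N.mul_mem (hU _) (hL _)) (hU _)
  rw [eq_top_iff]
  intro g _
  obtain ⟨x, y, z, w, hx, rfl⟩ := exists_pm g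
  by_cases hz : z = 0
  · have hx0 : x ≠ 0 := by
      rintro rfl
      rw [hz] at hx
      simp at hx
    have h' : x * (y + w) - y * (x + z) = 1 := by linear_combination hx
    have hm := main x y (x + z) (y + w) h' (by rw [hz, add_zero]; exact hx0)
    have : pm x y z w hx = (ll 1)⁻¹ * pm x y (x + z) (y + w) h' := by
      rw [ll, pm_inv, pm_mul]
      exact pm_congr (by ring) (by ring) (by ring) (by ring)
    rw [this]
    exact N.mul_mem (N.inv_mem (hL 1)) hm
  · exact main x y z w hx hz

theorem commute_entries {a b c d a' b' c' d' : F} {h : a * d - b * c = 1}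
    {h' : a' * d' - b' * c' = 1}
    (hcomm : pm a b c d h * pm a' b' c' d' h' = pm a' b' c' d' h' * pm a b c d h)
    (ht : a' + d' ≠ 0) :
    b * c' = b' * c ∧ a * b' + b * d' = a' * b + b' * d ∧ c * a' + d * c' = c' * a + d' * c := by
  rw [pm_mul, pm_mul, pm_eq_pm_iff] at hcomm
  rcases hcomm with ⟨h1, h2, h3, -⟩ | ⟨h1, h2, h3, h4⟩
  · exact ⟨by linear_combination h1, h2, h3⟩
  · by_cases h2z : (2 : F) = 0
    · refine ⟨?_, ?_, ?_⟩
      · linear_combination h1 - (a * a' + b' * c) * h2z
      · linear_combination h2 - (a' * b + b' * d) * h2z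
      · linear_combination h3 - (c' * a + d' * c) * h2z
    exfalso
    -- `g x g⁻¹ = -x` forces trace zero
    refine ht (mul_left_cancel₀ h2z ?_)
    linear_combination d * h1 + a * h4 - b * h3 - c * h2 - 2 * (a' + d') * h

end CfsgLib.PSLBinary
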