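import Cfsg.Agent.PSLBinary.Basic
import Cfsg.Agent.PSLBinary.Mat

/-!
Binary coset actions of `PSL₂(q)`: stabilisers containing transvections.
-/

set_option autoImplicit false
set_option linter.unusedSectionVars false
set_option maxHeartbeats 1000000

namespace CfsgLib.PSLBinary

variable {F : Type*} [Field F] [Finite F]

/-- The upper unipotent subgroup. -/
def upper (F : Type*) [Field F] : Subgroup (PG F) where
  carrier := Set.range (uu : F → PG F)
  one_mem' := ⟨0, uu_zero⟩
  mul_mem' := by rintro _ _ ⟨s, rfl⟩ ⟨t, rfl⟩; exact ⟨s + t, (uu_mul s t).symm⟩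
  inv_mem' := by rintro _ ⟨s, rfl⟩; exact ⟨-s, (uu_inv s).symm⟩

theorem mem_upper {g : PG F} : g ∈ upper F ↔ ∃ t, uu t = g := Iff.rfl

theorem card_upper : Nat.card (upper F) = Nat.card F :=
  Nat.card_range_of_injective uu_injective

/-- An upper triangular element with equal diagonal entries is unipotent. -/
theorem pm_eq_uu {a b d : F} {h : a * d - b * 0 = 1} (had : a = d) :
    pm a b 0 d h = uu (a * b) := by
  subst had
  rw [uu, pm_eq_pm_iff]
  rcases mul_self_eq_one_iff.1 (show a * a = 1 by linear_combination h) with rfl | rfl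
  · left; simp
  · right; simp

variable (H : Subgroup (PG F))

theorem eq_top_of_fix_all {H : Subgroup (PG F)} (x : PG F ⧸ H) (h : ∀ g : PG F, g • x = x) :
    H = ⊤ := by
  obtain ⟨c, rfl⟩ := QuotientGroup.mk_surjective x
  rw [eq_top_iff]
  intro g _
  simpa [mul_assoc] using smul_mk_eq_self_iff.1 (h (c * g * c⁻¹))

variable {H} (hH : H ≠ ⊤)
include hH

theorem lower_left_zero_of_fix {x : PG F ⧸ H} (hx : ∀ t : F, uu t • x = x) {a b c d : F}
    {h : a * d - b * c = 1} (hg : pm a b c d h • x = x) : c = 0 := by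
  by_contra hc
  have := eq_top_of_upper (MulAction.stabilizer (PG F) x) hx hg hc
  exact hH (eq_top_of_fix_all x fun g =>
    MulAction.mem_stabilizer_iff.1 (this ▸ Subgroup.mem_top g))

/-- Either the kernel of a transvection is unipotent or it contains all of its unipotent group. -/
theorem ker_uu (h4 : 4 ≤ Nat.card F) {z : F} (hz : z ≠ 0) (hin : InH H (uu z)) :
    (∀ g ∈ Ker H (uu z), ∃ t, uu t = g) ∨ (∀ t, uu t ∈ Ker H (uu z)) := by
  by_cases hall : ∀ t, uu t ∈ Ker H (uu z)
  · exact Or.inr hall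
  refine Or.inl fun g hg => ?_
  obtain ⟨a, b, c, d, h, rfl⟩ := exists_pm g
  have hnorm : ∀ t : F, uu t ∈ Subgroup.normalizer (Ker H (uu z) : Set (PG F)) := by
    intro t
    rw [Subgroup.mem_normalizer_iff]
    intro k
    constructor
    · exact mem_ker_conj_of_comm _ (by rw [uu_mul, uu_mul, add_comm])
    · intro hk
      have := mem_ker_conj_of_comm (uu t)⁻¹ (by
        rw [uu_inv, uu_mul, uu_mul, add_comm]) hk
      simpa [mul_assoc] using this
  by_cases hc : c = 0
  · subst hc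
    by_contra hne
    have had : a ≠ d := fun e => hne ⟨_, (pm_eq_uu e).symm⟩
    refine hall fun t => ?_
    have ha2 : a ^ 2 - 1 ≠ 0 := fun e => had (by
      linear_combination d * e - a * h)
    have key : uu t = pm a b 0 d h * uu (t / (a ^ 2 - 1)) * (pm a b 0 d h)⁻¹ *
        (uu (t / (a ^ 2 - 1)))⁻¹ := by
      have hd : d ≠ 0 := by rintro rfl; simp at h
      rw [uu, uu, pm_inv, pm_inv, pm_mul, pm_mul, pm_mul]
      refine pm_congr ?_ ?_ ?_ ?_
      · linear_combination -h
      · field_simp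
        linear_combination (-(t * (1 - a ^ 2))) * h
      · ring
      · linear_combination -h
    rw [key, mul_assoc, mul_assoc]
    refine (Ker H (uu z)).mul_mem hg ?_
    rw [← mul_assoc]
    exact mem_ker_conj_of_comm _ (by rw [uu_mul, uu_mul, add_comm])
      ((Ker H (uu z)).inv_mem hg)
  exfalso
  have htop : Subgroup.normalizer (Ker H (uu z) : Set (PG F)) = ⊤ :=
    eq_top_of_upper _ hnorm (Subgroup.le_normalizer hg) hc
  have := Subgroup.normalizer_eq_top_iff.1 htop
  have hs := CfsgLib.Linear.PSLTwo.isSimple h4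
  rcases this.eq_bot_or_eq_top with e | e
  · exact hz (uu_eq_one_iff.1 (Subgroup.mem_bot.1 (e ▸ mem_ker_self (uu z))))
  · obtain ⟨x, hx⟩ := hin
    exact hH (eq_top_of_fix_all x fun k => (e ▸ Subgroup.mem_top k : k ∈ Ker H (uu z)) x hx)

variable [Fact (4 ≤ Nat.card F)]

theorem ker_uu_upper (hno : ¬ ∃ x : PG F ⧸ H, ∀ t : F, uu t • x = x) {z : F} (hz : z ≠ 0)
    (hin : InH H (uu z)) {g : PG F} (hg : g ∈ Ker H (uu z)) : ∃ t, uu t = g := by
  rcases ker_uu hH Fact.out hz hin with h | h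
  · exact h g hg
  · obtain ⟨x, hx⟩ := hin
    exact absurd ⟨x, fun t => h t x hx⟩ hno

/-- The three transvections in odd characteristic. -/
theorem odd_transvections (h2 : (2 : F) ≠ 0) {z : F} (hz : z ≠ 0) (hin : InH H (uu z))
    (hnoi : ∀ x : PG F ⧸ H, (∀ t : F, uu t • x = x) →
      ∀ (i : F) (hi : i * -i - 0 * 0 = 1), pm i 0 0 (-i) hi • x ≠ x) : ¬ Binary H := by
  have hz' : -z ≠ 0 := neg_ne_zero.2 hz
  have hin' : InH H (uu (-z)) := by
    rw [← uu_inv]
    obtain ⟨x, hx⟩ := hin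
    exact ⟨x, by rw [inv_smul_eq_iff, hx]⟩
  have hc : (2 / z : F) ≠ 0 := div_ne_zero h2 hz
  set W : PG F := pm 0 (-(2 / z)⁻¹) (2 / z) 0 (by field_simp; ring) with hW
  set M : PG F := pm 1 0 (-(2 / z)) 1 (by ring) with hM
  set b : PG F := pm 1 z (-(4 / z)) (-3) (by field_simp; ring) with hb
  have ea : W * uu (-z) * W⁻¹ = ll (4 / z) := by
    rw [hW, ll, uu, pm_inv, pm_mul, pm_mul]
    refine pm_congr ?_ ?_ ?_ ?_ <;> field_simp <;> ring
  have eb : M * uu (-z) * M⁻¹ = b := by
    rw [hM, hb, uu, pm_inv, pm_mul, pm_mul, pm_eq_pm_iff]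
    right
    refine ⟨?_, ?_, ?_, ?_⟩ <;> field_simp <;> ring
  refine not_binary_triple (uu z) (ll (4 / z)) b ?_ hin (eb ▸ inH_conj M hin') ?_
  · rw [hb, ll, uu, pm_mul]
    refine pm_congr ?_ ?_ ?_ ?_ <;> field_simp <;> ring
  intro g hgh hga hgb
  have hga' := mem_ker_of_conj W ea hga
  have hgb' := mem_ker_of_conj M eb hgb
  by_cases hno : ∃ x : PG F ⧸ H, ∀ t : F, uu t • x = x
  · obtain ⟨x, hx⟩ := hno
    obtain ⟨α, β, γ, δ, hg, rfl⟩ := exists_pm g
    have hγ : γ = 0 := lower_left_zero_of_fix hH hx (hgh x (hx z))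
    subst hγ
    have hx' := hga' x (hx _)
    rw [hW, pm_inv, pm_mul, pm_mul] at hx'
    have hβ := lower_left_zero_of_fix hH hx hx'
    field_simp at hβ
    have hβ0 : β = 0 := by simpa [h2, hz] using hβ
    subst hβ0
    have hx'' := hgb' x (hx _)
    rw [hM, uu, pm_inv, pm_inv, pm_mul, pm_mul, pm_mul] at hx''
    have hsum := lower_left_zero_of_fix hH hx hx''
    field_simp at hsum
    have hδ : δ = -α := mul_left_cancel₀ (mul_ne_zero h2 hz) (by linear_combination -hsum)
    subst hδ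
    exact hnoi x hx α hg (hgh x (hx z))
  · obtain ⟨t, rfl⟩ := ker_uu_upper hH hno hz hin hgh
    obtain ⟨s, hs⟩ := ker_uu_upper hH hno hz' hin' hga'
    rw [hW, uu, uu, pm_inv, pm_mul, pm_mul, pm_eq_pm_iff] at hs
    have ht : t = 0 := by
      rcases hs with ⟨-, -, h, -⟩ | ⟨-, -, h, -⟩ <;> field_simp at h <;>
        simpa [h2, hz] using h
    subst ht
    obtain ⟨s', hs'⟩ := ker_uu_upper hH hno hz' hin' hgb'
    rw [uu_zero, inv_one, one_mul, hM, uu, uu, pm_inv, pm_mul, pm_mul, pm_eq_pm_iff] at hs'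
    have h4 : (4 : F) = 0 := by
      rcases hs' with ⟨-, -, h, -⟩ | ⟨-, -, h, -⟩ <;> field_simp at h <;>
        first | linear_combination -h | linear_combination h
    exact mul_ne_zero h2 h2 (by linear_combination h4)

/-- A stabiliser with all upper unipotents and an element of order two in the torus, odd case. -/
theorem odd_diag (h2 : (2 : F) ≠ 0) {x : PG F ⧸ H} (hx : ∀ t : F, uu t • x = x) {i : F}
    (hi : i * -i - 0 * 0 = 1) (hs : pm i 0 0 (-i) hi • x = x) : ¬ Binary H := by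
  have hi2 : i * i = -1 := by linear_combination -hi
  set W : PG F := pm 0 1 (-1) 0 (by ring) with hW
  set M : PG F := pm 1 (i / 2) i (1 / 2) (by field_simp; linear_combination -hi2) with hM
  set M' : PG F := pm 1 (-(1 / 2)) 1 (1 / 2) (by field_simp; ring) with hM'
  set b : PG F := pm 0 i i 0 (by linear_combination -hi2) with hb
  have ea : M * pm i 0 0 (-i) hi * M⁻¹ = W := by
    rw [hM, hW, pm_inv, pm_mul, pm_mul]
    refine pm_congr ?_ ?_ ?_ ?_ <;> field_simp
    · linear_combination (2 * i) * hi2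
    · linear_combination (-4 : F) * hi2
    · linear_combination (4 : F) * hi2
    · linear_combination (-2 * i) * hi2
  have eb : M' * pm i 0 0 (-i) hi * M'⁻¹ = b := by
    rw [hM', hb, pm_inv, pm_mul, pm_mul]
    refine pm_congr ?_ ?_ ?_ ?_ <;> field_simp <;> ring
  refine not_binary_triple (pm i 0 0 (-i) hi) W b ?_ ⟨x, hs⟩ (eb ▸ inH_conj M' ⟨x, hs⟩) ?_
  · rw [hb, hW, pm_mul]
    exact pm_congr (by ring) (by ring) (by ring) (by ring)
  intro g hgh hga hgb
  obtain ⟨α, β, γ, δ, hg, rfl⟩ := exists_pm g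
  have hγ := lower_left_zero_of_fix hH hx (hgh x hs)
  subst hγ
  have eW : W * pm i 0 0 (-i) hi * W⁻¹ = pm i 0 0 (-i) hi := by
    rw [hW, pm_inv, pm_mul, pm_mul, pm_eq_pm_iff]
    right; simp
  -- `g` fixes `0` and `∞`
  have h' := mem_ker_of_conj W eW hgh x hs
  rw [hW, pm_inv, pm_mul, pm_mul] at h'
  have hβ : β = 0 := by simpa using lower_left_zero_of_fix hH hx h'
  subst hβ
  have ha' := mem_ker_of_conj M ea hga x hs
  rw [hM, pm_inv, pm_mul, pm_mul] at ha'
  have hd := lower_left_zero_of_fix hH hx ha'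
  field_simp at hd
  have hi0 : i ≠ 0 := by rintro rfl; simp at hi2
  have hδ : δ = α := by
    have : i * (δ - α) = 0 := by linear_combination hd
    exact sub_eq_zero.1 ((mul_eq_zero.1 this).resolve_left hi0)
  subst hδ
  have hb' := mem_ker_of_conj M' eb hgb x hs
  rw [hM', pm_inv, pm_inv, pm_mul, pm_mul, pm_mul] at hb'
  have hd' := lower_left_zero_of_fix hH hx hb'
  field_simp at hd'
  have hδ0 : δ ≠ 0 := by rintro rfl; simp at hg
  exact mul_ne_zero (mul_ne_zero h2 hδ0) hi0 (by linear_combination -hd')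

/-- A stabiliser with all upper unipotents and a torus element, even case. -/
theorem two_diag (h2 : (2 : F) = 0) {x : PG F ⧸ H} (hx : ∀ t : F, uu t • x = x) {s : F}
    (hs0 : s ≠ 0) (hs1 : s ≠ 1) (hi : s * s⁻¹ - 0 * 0 = 1) (hs : pm s 0 0 s⁻¹ hi • x = x) :
    ¬ Binary H := by
  have hs2 : s * s ≠ 1 := fun e => hs1 (by
    have : (s - 1) * (s - 1) = 0 := by linear_combination e - (s - 1) * h2
    exact sub_eq_zero.1 (mul_self_eq_zero.1 this))
  set W : PG F := pm 0 1 1 0 (by linear_combination -h2) with hW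
  set M : PG F := pm 1 0 1 1 (by ring) with hM
  set M' : PG F := pm 1 0 s 1 (by ring) with hM'
  set b : PG F := pm 0 s⁻¹ s 0 (by
    rw [inv_mul_cancel₀ hs0]; linear_combination -h2) with hb
  have ea : M * uu 1 * M⁻¹ = W := by
    rw [hM, hW, uu, pm_inv, pm_mul, pm_mul]
    exact pm_congr (by ring) (by ring) (by linear_combination -h2)
      (by linear_combination h2)
  have eb : M' * uu s⁻¹ * M'⁻¹ = b := by
    rw [hM', hb, uu, pm_inv, pm_mul, pm_mul]
    refine pm_congr ?_ ?_ ?_ ?_ <;> field_simp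
    · ring
    · ring
    · linear_combination (-s) * h2
    · linear_combination h2
  refine not_binary_triple (pm s 0 0 s⁻¹ hi) W b ?_ ⟨x, hs⟩ (eb ▸ inH_conj M' ⟨x, hx _⟩) ?_
  · rw [hb, hW, pm_mul]
    exact pm_congr (by ring) (by ring) (by ring) (by ring)
  intro g hgh hga hgb
  obtain ⟨α, β, γ, δ, hg, rfl⟩ := exists_pm g
  have hγ := lower_left_zero_of_fix hH hx (hgh x hs)
  subst hγ
  have hWx : pm s 0 0 s⁻¹ hi • W • x = W • x := by
    rw [← mul_smul, show pm s 0 0 s⁻¹ hi * W = W * (pm s 0 0 s⁻¹ hi)⁻¹ by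
      rw [hW, pm_inv, pm_mul, pm_mul]; exact pm_congr (by ring) (by ring) (by ring) (by ring),
      mul_smul, inv_smul_eq_iff.2 hs.symm]
  have h' := hgh (W • x) hWx
  have h'' : (W⁻¹ * pm α β 0 δ hg * W) • x = x := by
    rw [mul_smul, mul_smul, h', inv_smul_smul]
  rw [hW, pm_inv, pm_mul, pm_mul] at h''
  have hβ : β = 0 := by simpa using lower_left_zero_of_fix hH hx h''
  subst hβ
  have ha' := mem_ker_of_conj M ea hga x (hx 1)
  rw [hM, pm_inv, pm_mul, pm_mul] at ha'
  have hd := lower_left_zero_of_fix hH hx ha'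
  have hδ : δ = α := by linear_combination hd
  subst hδ
  have hb' := mem_ker_of_conj M' eb hgb x (hx _)
  rw [hM', pm_inv, pm_inv, pm_mul, pm_mul, pm_mul] at hb'
  have hd' := lower_left_zero_of_fix hH hx hb'
  field_simp at hd'
  have hδ0 : δ ≠ 0 := by rintro rfl; simp at hg
  refine mul_ne_zero hδ0 (sub_ne_zero.2 hs2) ?_
  linear_combination -hd'

theorem two_proper (h2 : (2 : F) = 0) {z : F} (hz : z ≠ 0) {x : PG F ⧸ H} (hx : uu z • x = x)
    (hno : ¬ ∃ x : PG F ⧸ H, ∀ t : F, uu t • x = x) : ¬ Binary H := by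
  cases nonempty_fintype F
  classical
  set U0 : Set F := {t | uu t • x = x} with hU0
  have hadd : ∀ {a b : F}, a ∈ U0 → b ∈ U0 → a + b ∈ U0 := by
    intro a b ha hb
    show uu (a + b) • x = x
    rw [← uu_mul, mul_smul, show uu b • x = x from hb]; exact ha
  have hzero : (0 : F) ∈ U0 := by show uu 0 • x = x; rw [uu_zero, one_smul]
  have hneg : ∀ a : F, -a = a := fun a => by linear_combination -a * h2
  have hsqrt : ∀ c : F, ∃ r, r * r = c := by
    refine fun c => (Finite.injective_iff_surjective.1 fun a b e => ?_ : Function.Surjective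
      fun r : F => r * r) c
    exact sub_eq_zero.1 (mul_self_eq_zero.1 (by linear_combination e - (a * b - b * b) * h2))
  obtain ⟨κ, hκ⟩ : ∃ κ, κ ∉ U0 := by
    by_contra h
    push Not at h
    exact hno ⟨x, h⟩
  have hκ0 : κ ≠ 0 := fun e => hκ (e ▸ hzero)
  -- every transvection fixes a point
  have hdiag : ∀ (w v : F), v ≠ 0 → w ≠ 0 → ∃ D : PG F,
      ∀ t, D⁻¹ * uu t * D = uu (t * v / w) := by
    intro w v hv hw
    obtain ⟨r, hr⟩ := hsqrt (w / v)
    have hr0 : r ≠ 0 := by
      rintro rfl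
      exact div_ne_zero hw hv (by rw [← hr, mul_zero])
    refine ⟨pm r 0 0 r⁻¹ (by field_simp; ring), fun t => ?_⟩
    rw [uu, uu, pm_inv, pm_mul, pm_mul]
    refine pm_congr ?_ ?_ ?_ ?_ <;> field_simp
    · ring
    · rw [show w = v * (r * r) by rw [hr]; field_simp]; ring
    · ring
    · ring
  have hInH : ∀ w : F, w ≠ 0 → InH H (uu w) := by
    intro w hw
    obtain ⟨D, hD⟩ := hdiag w z hz hw
    refine ⟨D • x, inv_smul_eq_iff.1 ?_ |>.symm.symm⟩
    rw [← mul_smul, ← mul_smul, hD, show w * z / w = z by field_simp, hx]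
  refine not_binary {y | ∃ w : F, w ≠ 0 ∧ κ + w ∈ U0 ∧ uu w • y = y} {x} ?_ ⟨x, rfl⟩ (uu κ) ?_ ?_
  · obtain ⟨y, hy⟩ := hInH κ hκ0
    exact ⟨y, κ, hκ0, by rw [show κ + κ = 0 by linear_combination κ * h2]; exact hzero, hy⟩
  · rintro y ⟨w, -, hw, hy⟩ y' hy'
    rw [Set.mem_singleton_iff.1 hy']
    refine ⟨uu w, hy, ?_⟩
    have : uu (κ + w) • x = x := hw
    rw [← uu_mul, mul_smul, ← eq_inv_smul_iff, uu_inv, hneg] at this
    exact this
  intro g hX hY
  have hgκ : g ∈ Ker H (uu κ) := fun y hy =>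
    hX y ⟨κ, hκ0, by rw [show κ + κ = 0 by linear_combination κ * h2]; exact hzero, hy⟩
  obtain ⟨t, rfl⟩ := ker_uu_upper hH hno hκ0 (hInH κ hκ0) hgκ
  have htκ : t + κ ∈ U0 := by
    have := hY x rfl
    show uu (t + κ) • x = x
    rw [add_comm, ← uu_mul, mul_smul, this, ← mul_smul, uu_mul,
      show κ + κ = 0 by linear_combination κ * h2, uu_zero, one_smul]
  have ht0 : t ≠ 0 := fun e => hκ (by rw [e, zero_add] at htκ; exact htκ)
  -- the scalars available
  set C : Set F := {c | ∃ v ∈ U0, v ≠ 0 ∧ c ≠ 0 ∧ κ + c * v ∈ U0} with hC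
  have hmaps : ∀ c ∈ C, t / c ∈ U0 \ {0} := by
    rintro c ⟨v, hv, hv0, hc, hcv⟩
    have hw : c * v ≠ 0 := mul_ne_zero hc hv0
    obtain ⟨D, hD⟩ := hdiag (c * v) v hv0 hw
    have hfix : uu (c * v) • D • x = D • x := by
      refine inv_smul_eq_iff.1 ?_ |>.symm.symm
      rw [← mul_smul, ← mul_smul, hD, show c * v * v / (c * v) = v by field_simp]
      exact hv
    have := hX (D • x) ⟨c * v, hw, hcv, hfix⟩
    have : (D⁻¹ * uu t * D) • x = x := by rw [mul_smul, mul_smul, this, inv_smul_smul]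
    rw [hD] at this
    refine ⟨?_, div_ne_zero ht0 hc⟩
    show uu (t / c) • x = x
    rwa [show t / c = t * v / (c * v) by field_simp]
  set C0 : Set F := (fun v => κ / v) '' (U0 \ {0}) with hC0
  have hsub : C0 ⊆ C := by
    rintro _ ⟨v, ⟨hv, hv0⟩, rfl⟩
    have hv0' : v ≠ 0 := hv0
    refine ⟨v, hv, hv0', div_ne_zero hκ0 hv0', ?_⟩
    rw [show κ + κ / v * v = 0 by field_simp; linear_combination κ * h2]
    exact hzero
  have hcard : C.ncard ≤ C0.ncard := by
    rw [hC0, Set.ncard_image_of_injective _ (fun a b e => by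
      simpa [div_eq_mul_inv, hκ0] using e), ← Set.ncard_image_of_injective C
      (f := fun c => t / c) (fun a b e => by simpa [div_eq_mul_inv, ht0] using e)]
    exact Set.ncard_le_ncard (Set.image_subset_iff.2 hmaps) (Set.toFinite _)
  have heq : C0 = C := Set.eq_of_subset_of_ncard_le hsub hcard (Set.toFinite _)
  -- hence `U0 / κ` is closed under products
  have hmul : ∀ u ∈ U0, ∀ v ∈ U0, u * v / κ ∈ U0 := by
    intro u hu v hv
    have hκu : κ + u ≠ 0 := fun e => hκ (by
      rw [show κ = u by linear_combination e - u * h2]; exact hu)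
    have hmap : ∀ v ∈ U0, κ * v / (κ + u) ∈ U0 := by
      intro v hv
      by_cases hv0 : v = 0
      · rw [hv0, mul_zero, zero_div]; exact hzero
      have hc : (κ + u) / v ∈ C := by
        refine ⟨v, hv, hv0, div_ne_zero hκu hv0, ?_⟩
        rw [show κ + (κ + u) / v * v = u by field_simp; linear_combination κ * h2]
        exact hu
      rw [← heq] at hc
      obtain ⟨v', ⟨hv', hv0'⟩, e⟩ := hc
      rw [show κ * v / (κ + u) = κ / ((κ + u) / v) by field_simp, ← e,
        show κ / (κ / v') = v' by field_simp]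
      exact hv'
    obtain ⟨w, hw⟩ := ((Finite.injective_iff_surjective (f := fun a : U0 =>
      (⟨κ * a / (κ + u), hmap a a.2⟩ : U0))).1 fun a b e => Subtype.ext (by
        have e' := congrArg Subtype.val e
        field_simp at e'
        linear_combination e')) ⟨v, hv⟩
    have e : κ * (w : F) / (κ + u) = v := congrArg Subtype.val hw
    field_simp at e
    have : u * v / κ = (w : F) + v := by
      field_simp
      linear_combination -e - κ * v * h2
    rw [this]
    exact hadd w.2 hv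
  have hpow : ∀ n : ℕ, z ^ (n + 1) / κ ^ n ∈ U0 := by
    intro n
    induction n with
    | zero => simp only [zero_add, pow_one, pow_zero, div_one]; exact hx
    | succ n ih =>
      have := hmul _ ih z hx
      rwa [div_mul_eq_mul_div, div_div, ← pow_succ, ← pow_succ] at this
  have hq : 4 ≤ Fintype.card F := by rw [← Nat.card_eq_fintype_card]; exact Fact.out
  have := hpow (Fintype.card F - 2)
  rw [show Fintype.card F - 2 + 1 = Fintype.card F - 1 by omega,
    FiniteField.pow_card_sub_one_eq_one z hz] at this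
  refine hκ ?_
  have e : κ * κ ^ (Fintype.card F - 2) = 1 := by
    rw [← pow_succ', show Fintype.card F - 2 + 1 = Fintype.card F - 1 by omega]
    exact FiniteField.pow_card_sub_one_eq_one κ hκ0
  rwa [← eq_div_iff (pow_ne_zero _ hκ0) |>.2 e] at this

/-- The stabiliser is exactly the unipotent group. -/
theorem stab_eq_upper {x : PG F ⧸ H} (hx : ∀ t : F, uu t • x = x)
    (hnd : ∀ (s : F) (_ : s ≠ 1) (hi : s * s⁻¹ - 0 * 0 = 1), pm s 0 0 s⁻¹ hi • x ≠ x) {g : PG F} :
    g • x = x ↔ g ∈ upper F := by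
  refine ⟨fun hg => ?_, fun ⟨t, ht⟩ => ht ▸ hx t⟩
  obtain ⟨a, b, c, d, h, rfl⟩ := exists_pm g
  have hc := lower_left_zero_of_fix hH hx hg
  subst hc
  have hd : d = a⁻¹ := eq_inv_of_mul_eq_one_left (by linear_combination h)
  have ha : a ≠ 0 := by rintro rfl; simp at h
  by_cases ha1 : a = 1
  · exact ⟨_, (pm_eq_uu (by rw [hd, ha1, inv_one])).symm⟩
  exfalso
  have hi : a * a⁻¹ - 0 * 0 = 1 := by field_simp; ring
  have : pm a 0 0 a⁻¹ hi = pm a b 0 d h * uu (-(b / a)) := by
    rw [uu, pm_mul]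
    subst hd
    refine pm_congr ?_ ?_ ?_ ?_ <;> field_simp <;> ring
  exact hnd a ha1 hi (by rw [this, mul_smul, hx, hg])

end CfsgLib.PSLBinary
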