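import Mathlib

/-!
Binary actions on cosets: criteria for failing or having the property.
-/

set_option autoImplicit false

namespace CfsgLib.PSLBinary

variable {G : Type*} [Group G]

/-- The action on the cosets of `H` is binary. -/
def Binary (H : Subgroup G) : Prop :=
  ∀ (n : ℕ) (I J : Fin n → G ⧸ H), 2 ≤ n →
    (∀ i j : Fin n, i ≠ j → ∃ g : G, g • I i = J i ∧ g • I j = J j) → ∃ g : G, ∀ i, g • I i = J i

/-- `a` fixes some point. -/
def InH (H : Subgroup G) (a : G) : Prop := ∃ x : G ⧸ H, a • x = x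

/-- The elements fixing every fixed point of `a`. -/
def Ker (H : Subgroup G) (a : G) : Subgroup G where
  carrier := {g | ∀ x : G ⧸ H, a • x = x → g • x = x}
  one_mem' := fun x _ => one_smul _ x
  mul_mem' := by
    intro g g' hg hg' x hx
    rw [mul_smul, hg' x hx, hg x hx]
  inv_mem' := by
    intro g hg x hx
    rw [inv_smul_eq_iff, hg x hx]

variable {H : Subgroup G}

theorem smul_mk_eq_self_iff {g c : G} : g • (c : G ⧸ H) = c ↔ c⁻¹ * g * c ∈ H := by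
  rw [MulAction.Quotient.smul_coe, eq_comm, QuotientGroup.eq, smul_eq_mul, ← mul_assoc]

theorem smul_one_eq_self_iff {g : G} : g • ((1 : G) : G ⧸ H) = (1 : G) ↔ g ∈ H := by
  rw [smul_mk_eq_self_iff]
  simp

theorem inH_of_mem {g : G} (h : g ∈ H) : InH H g := ⟨_, smul_one_eq_self_iff.2 h⟩

theorem InH.exists_conj {a : G} (h : InH H a) : ∃ c : G, c⁻¹ * a * c ∈ H := by
  obtain ⟨x, hx⟩ := h
  obtain ⟨c, rfl⟩ := QuotientGroup.mk_surjective x
  exact ⟨c, smul_mk_eq_self_iff.1 hx⟩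

theorem mem_ker_self (a : G) : a ∈ Ker H a := fun _ h => h

theorem inH_of_mem_ker {a g : G} (ha : InH H a) (hg : g ∈ Ker H a) : InH H g := by
  obtain ⟨x, hx⟩ := ha
  exact ⟨x, hg x hx⟩

theorem conj_smul_eq_iff {c g : G} {x : G ⧸ H} : (c * g * c⁻¹) • x = x ↔ g • c⁻¹ • x = c⁻¹ • x := by
  rw [mul_smul, mul_smul, smul_eq_iff_eq_inv_smul]

theorem inH_conj {a : G} (c : G) (h : InH H a) : InH H (c * a * c⁻¹) := by
  obtain ⟨x, hx⟩ := h
  exact ⟨c • x, by rw [conj_smul_eq_iff, inv_smul_smul]; exact hx⟩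

theorem mem_ker_conj {a g : G} (c : G) (h : g ∈ Ker H a) :
    c * g * c⁻¹ ∈ Ker H (c * a * c⁻¹) := by
  intro x hx
  rw [conj_smul_eq_iff] at hx ⊢
  exact h _ hx

theorem mem_ker_conj_of_comm {a g : G} (c : G) (hc : c * a = a * c) (h : g ∈ Ker H a) :
    c * g * c⁻¹ ∈ Ker H a := by
  have := mem_ker_conj c h
  rwa [show c * a * c⁻¹ = a by rw [hc, mul_inv_cancel_right]] at this

theorem mem_ker_of_conj {a b g : G} (c : G) (hb : c * a * c⁻¹ = b) (h : g ∈ Ker H b) :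
    c⁻¹ * g * c ∈ Ker H a := by
  subst hb
  have := mem_ker_conj c⁻¹ h
  simpa [mul_assoc] using this

theorem mem_conj_of_mem_ker {a g c : G} (ha : c⁻¹ * a * c ∈ H) (h : g ∈ Ker H a) :
    c⁻¹ * g * c ∈ H :=
  smul_mk_eq_self_iff.1 (h _ (smul_mk_eq_self_iff.2 ha))

section Finite

variable [Finite G]

/-- The general way of refuting binarity: points of `X` fixed, those of `Y` moved by `k`. -/
theorem not_binary (X Y : Set (G ⧸ H)) (hX : X.Nonempty) (hY : Y.Nonempty) (k : G)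
    (hXY : ∀ x ∈ X, ∀ y ∈ Y, ∃ g : G, g • x = x ∧ g • y = k • y)
    (hno : ∀ g : G, (∀ x ∈ X, g • x = x) → (∀ y ∈ Y, g • y = k • y) → False) :
    ¬ Binary H := by
  intro hb
  obtain ⟨n, ⟨e⟩⟩ := Finite.exists_equiv_fin (↥X ⊕ ↥Y)
  let I0 : ↥X ⊕ ↥Y → G ⧸ H := Sum.elim (fun x => (x : G ⧸ H)) (fun y => (y : G ⧸ H))
  let J0 : ↥X ⊕ ↥Y → G ⧸ H := Sum.elim (fun x => (x : G ⧸ H)) (fun y => k • (y : G ⧸ H))
  have hn : 2 ≤ n := by
    obtain ⟨x, hx⟩ := hX
    obtain ⟨y, hy⟩ := hY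
    have hne : e (Sum.inl ⟨x, hx⟩) ≠ e (Sum.inr ⟨y, hy⟩) := fun h => by
      simpa using e.injective h
    have := Fin.val_ne_of_ne hne
    have := (e (Sum.inl ⟨x, hx⟩)).isLt
    have := (e (Sum.inr ⟨y, hy⟩)).isLt
    omega
  have hpair : ∀ i j : ↥X ⊕ ↥Y, ∃ g : G, g • I0 i = J0 i ∧ g • I0 j = J0 j := by
    rintro (x | x) (y | y)
    · exact ⟨1, one_smul _ _, one_smul _ _⟩
    · exact hXY x x.2 y y.2
    · obtain ⟨g, h1, h2⟩ := hXY y y.2 x x.2
      exact ⟨g, h2, h1⟩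
    · exact ⟨k, rfl, rfl⟩
  obtain ⟨g, hg⟩ := hb n (I0 ∘ e.symm) (J0 ∘ e.symm) hn fun i j _ => hpair _ _
  refine hno g (fun x hx => ?_) (fun y hy => ?_)
  · simpa [I0, J0] using hg (e (Sum.inl ⟨x, hx⟩))
  · simpa [I0, J0] using hg (e (Sum.inr ⟨y, hy⟩))

/-- A product `h = a b` of three elements fixing points gives a witness. -/
theorem not_binary_triple (h a b : G) (hab : h = a * b) (hh : InH H h) (hb : InH H b)
    (hno : ∀ g : G, g ∈ Ker H h → g ∈ Ker H a → g⁻¹ * h ∈ Ker H b → False) : ¬ Binary H := by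
  obtain ⟨x₀, hx₀⟩ := hh
  obtain ⟨y₀, hy₀⟩ := hb
  refine not_binary {x | h • x = x ∨ a • x = x} {y | b • y = y} ⟨x₀, Or.inl hx₀⟩ ⟨y₀, hy₀⟩ h ?_ ?_
  · rintro x (hx | hx) y hy
    · exact ⟨h, hx, rfl⟩
    · exact ⟨a, hx, by rw [hab, mul_smul, hy]⟩
  · intro g hX hY
    refine hno g (fun x hx => hX x (Or.inl hx)) (fun x hx => hX x (Or.inr hx)) fun y hy => ?_
    rw [mul_smul, inv_smul_eq_iff, hY y hy]

end Finite

/-- A TI point stabiliser with no proper triangle gives a binary action. -/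
theorem binary_of_ti
    (hTI : ∀ h ∈ H, h ≠ 1 → ∀ (c : G), c⁻¹ * h * c ∈ H → ∀ g ∈ H, c⁻¹ * g * c ∈ H)
    (htri : ∀ h ∈ H, h ≠ 1 → ∀ a : G, a ≠ 1 → InH H a → h * a ≠ 1 → InH H (h * a) → a ∈ H) :
    Binary H := by
  -- transported to an arbitrary base point
  have hTI' : ∀ (h : G) (x y : G ⧸ H), h ≠ 1 → h • x = x → h • y = y →
      ∀ g : G, g • x = x → g • y = y := by
    intro h x y hne hx hy g hg
    obtain ⟨c, rfl⟩ := QuotientGroup.mk_surjective x
    obtain ⟨d, rfl⟩ := QuotientGroup.mk_surjective y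
    rw [smul_mk_eq_self_iff] at hx hy hg ⊢
    have := hTI (c⁻¹ * h * c) hx (fun e => hne (by
        simpa [mul_assoc] using congrArg (fun t => c * t * c⁻¹) e)) (c⁻¹ * d)
      (by simpa [mul_assoc] using hy) (c⁻¹ * g * c) hg
    simpa [mul_assoc] using this
  have htri' : ∀ (h a : G) (x : G ⧸ H), h • x = x → h ≠ 1 → a ≠ 1 → InH H a → h * a ≠ 1 →
      InH H (h * a) → a • x = x := by
    intro h a x hx hne ha1 ha hha1 hha
    obtain ⟨c, rfl⟩ := QuotientGroup.mk_surjective x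
    rw [smul_mk_eq_self_iff] at hx ⊢
    have e : c⁻¹ * h * c * (c⁻¹ * a * c) = c⁻¹ * (h * a) * c := by group
    refine htri _ hx (fun e' => hne ?_) _ (fun e' => ha1 ?_) ?_ (fun e' => hha1 ?_) ?_
    · simpa [mul_assoc] using congrArg (fun t => c * t * c⁻¹) e'
    · simpa [mul_assoc] using congrArg (fun t => c * t * c⁻¹) e'
    · simpa using inH_conj c⁻¹ ha
    · rw [e] at e'
      simpa [mul_assoc] using congrArg (fun t => c * t * c⁻¹) e'
    · rw [e]; simpa using inH_conj c⁻¹ hha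
  intro n I J hn hp
  let i0 : Fin n := ⟨0, by omega⟩
  let i1 : Fin n := ⟨1, by omega⟩
  obtain ⟨g0, hg0, -⟩ := hp i0 i1 (by simp [i0, i1])
  have hh : ∀ j, ∃ h : G, h • I i0 = I i0 ∧ g0 • h • I j = J j := by
    intro j
    rcases eq_or_ne i0 j with rfl | hj
    · exact ⟨1, one_smul _ _, by rw [one_smul]; exact hg0⟩
    · obtain ⟨g, h1, h2⟩ := hp i0 j hj
      exact ⟨g0⁻¹ * g, by rw [mul_smul, h1, inv_smul_eq_iff, hg0],
        by rw [mul_smul, h2, smul_inv_smul]⟩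
  choose h hh0 hhj using hh
  by_cases hsame : ∀ j, ∀ g : G, g • I i0 = I i0 → g • I j = I j
  · exact ⟨g0, fun j => by simpa [hsame j (h j) (hh0 j)] using hhj j⟩
  push Not at hsame
  obtain ⟨j0, gx, hgx, hgxj⟩ := hsame
  refine ⟨g0 * h j0, fun k => ?_⟩
  rw [mul_smul]
  rcases eq_or_ne j0 k with rfl | hjk
  · exact hhj j0
  -- the element `d` fixes the base point; it has to fix `I k`
  suffices key : ((h k)⁻¹ * h j0) • I k = I k by
    rw [mul_smul, inv_smul_eq_iff] at key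
    rw [key, hhj]
  set d := (h k)⁻¹ * h j0 with hd
  have hdx : d • I i0 = I i0 := by
    rw [hd, mul_smul, hh0, inv_smul_eq_iff, hh0]
  obtain ⟨m, hm1, hm2⟩ := hp j0 k hjk
  set a := (h j0)⁻¹ * (g0⁻¹ * m) with hadef
  have ha : a • I j0 = I j0 := by
    rw [hadef, mul_smul, mul_smul, hm1, ← hhj j0, inv_smul_smul, inv_smul_smul]
  have hb : (d * a) • I k = I k := by
    rw [show d * a = (h k)⁻¹ * (g0⁻¹ * m) by rw [hd, hadef]; group, mul_smul, mul_smul, hm2,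
      ← hhj k, inv_smul_smul, inv_smul_smul]
  by_cases hd1 : d = 1
  · rw [hd1, one_smul]
  by_cases ha1 : a = 1
  · rwa [ha1, mul_one] at hb
  by_cases hb1 : d * a = 1
  · exfalso
    have hdj : d • I j0 = I j0 := by
      rw [eq_inv_of_mul_eq_one_left hb1, inv_smul_eq_iff, ha]
    exact hgxj (hTI' d (I i0) (I j0) hd1 hdx hdj gx hgx)
  exfalso
  have hax := htri' d a (I i0) hdx hd1 ha1 ⟨_, ha⟩ hb1 ⟨_, hb⟩
  exact hgxj (hTI' a (I i0) (I j0) ha1 hax ha gx hgx)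

end CfsgLib.PSLBinary
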