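import Cfsg.Agent.PSLBinary.Unipotent

/-!
Binary coset actions of `PSL₂(q)`: stabilisers of order prime to the characteristic.
-/

set_option autoImplicit false
set_option linter.unusedSectionVars false
set_option maxHeartbeats 1000000

namespace CfsgLib.PSLBinary

variable {F : Type*} [Field F]

/-- The companion element of trace `τ`. -/
def comp (τ : F) : PG F := pm 0 (-1) 1 τ (by ring)

theorem exists_form [Finite F] (A B C k : F) (hd : B ^ 2 - 4 * (A * C) ≠ 0) :
    ∃ x y : F, A * x ^ 2 + B * x * y + C * y ^ 2 = k := by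
  cases nonempty_fintype F
  by_cases hA : A = 0
  · have hB : B ≠ 0 := fun e => hd (by rw [hA, e]; ring)
    refine ⟨(k - C) / B, 1, ?_⟩
    rw [hA]
    field_simp
    ring
  by_cases h2 : (2 : F) = 0
  · obtain ⟨r, hr⟩ : ∃ r, r * r = k / A := by
      refine (Finite.injective_iff_surjective.1 fun a b e => ?_ : Function.Surjective
        fun r : F => r * r) _
      exact sub_eq_zero.1 (mul_self_eq_zero.1 (by linear_combination e - (a * b - b * b) * h2))
    refine ⟨r, 0, ?_⟩
    rw [mul_zero, add_zero, zero_pow (by norm_num), mul_zero, add_zero, sq, hr]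
    field_simp
  have h4 : (4 : F) ≠ 0 := fun e => mul_ne_zero h2 h2 (by linear_combination e)
  have hcf : -(B ^ 2 - 4 * (A * C)) / (4 * A) ≠ 0 := by
    exact div_ne_zero (neg_ne_zero.2 hd) (mul_ne_zero h4 hA)
  open Polynomial in
  obtain ⟨a, b, hab⟩ := FiniteField.exists_root_sum_quadratic (R := F)
    (f := Polynomial.C A * X ^ 2)
    (g := Polynomial.C (-(B ^ 2 - 4 * (A * C)) / (4 * A)) * X ^ 2 - Polynomial.C k)
    (Polynomial.degree_C_mul_X_pow 2 hA)
    (by
      rw [Polynomial.degree_sub_C]
      · exact Polynomial.degree_C_mul_X_pow 2 hcf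
      · rw [Polynomial.degree_C_mul_X_pow 2 hcf]; norm_num)
    (FiniteField.odd_card_of_char_ne_two fun e => h2 (by
      have := ringChar.spec F 2
      exact_mod_cast this.2 (by rw [e])))
  refine ⟨a - B * b / (2 * A), b, ?_⟩
  simp only [Polynomial.eval_mul, Polynomial.eval_C, Polynomial.eval_pow, Polynomial.eval_X,
    Polynomial.eval_sub] at hab
  field_simp at hab ⊢
  linear_combination hab

theorem exists_conj_comp [Finite F] {a b c d : F} {h : a * d - b * c = 1}
    (ht : (a + d) ^ 2 ≠ 4) : ∃ m : PG F, m * comp (a + d) * m⁻¹ = pm a b c d h := by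
  obtain ⟨v, w, hv⟩ := exists_form c (d - a) (-b) 1 (fun e => ht (by linear_combination e + 4 * h))
  refine ⟨pm v (a * v + b * w) w (c * v + d * w) (by linear_combination hv), ?_⟩
  rw [mul_inv_eq_iff_eq_mul, comp, pm_mul, pm_mul]
  refine pm_congr ?_ ?_ ?_ ?_
  · ring
  · linear_combination (v) * h
  · ring
  · linear_combination (w) * h

theorem exists_conj_of_trace [Finite F] {a b c d a' b' c' d' : F} {h : a * d - b * c = 1}
    {h' : a' * d' - b' * c' = 1} (he : a + d = a' + d') (ht : (a + d) ^ 2 ≠ 4) :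
    ∃ m : PG F, m * pm a b c d h * m⁻¹ = pm a' b' c' d' h' := by
  obtain ⟨m, hm⟩ := exists_conj_comp (h := h) ht
  obtain ⟨m', hm'⟩ := exists_conj_comp (h := h') (he ▸ ht)
  refine ⟨m' * m⁻¹, ?_⟩
  rw [← hm, ← hm', he]
  group

theorem inH_of_trace [Finite F] {H : Subgroup (PG F)} {a b c d a' b' c' d' : F}
    {h : a * d - b * c = 1} {h' : a' * d' - b' * c' = 1} (hin : InH H (pm a b c d h))
    (he : a + d = a' + d') (ht : (a + d) ^ 2 ≠ 4) : InH H (pm a' b' c' d' h') := by
  obtain ⟨m, hm⟩ := exists_conj_of_trace (h := h) (h' := h') he ht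
  exact hm ▸ inH_conj m hin

/-- Only `1` commutes with two non-commuting elements of non-zero trace. -/
theorem cent_trivial {g u v : PG F} {a b c d a' b' c' d' : F} {h : a * d - b * c = 1}
    {h' : a' * d' - b' * c' = 1} (hu : u = pm a b c d h) (hv : v = pm a' b' c' d' h')
    (htu : a + d ≠ 0) (htv : a' + d' ≠ 0) (hgu : g * u = u * g) (hgv : g * v = v * g)
    (hne : u * v ≠ v * u) : g = 1 := by
  obtain ⟨x, y, z, w, hg, rfl⟩ := exists_pm g
  subst hu hv
  obtain ⟨e1, e2, e3⟩ := commute_entries hgu htu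
  obtain ⟨f1, f2, f3⟩ := commute_entries hgv htv
  rw [pm_eq_one_iff]
  by_contra hcon
  apply hne
  rw [pm_mul, pm_mul]
  -- both are polynomials in `g`
  obtain ⟨n1, n2, n3⟩ : b * c' = b' * c ∧ b * (a' - d') = b' * (a - d) ∧
      c * (a' - d') = c' * (a - d) := by
    by_cases hy : y = 0
    · by_cases hz : z = 0
      · have hxw : x - w ≠ 0 := sub_ne_zero.2 fun e => hcon ⟨hy, hz, e⟩
        subst hy hz
        have hb : b = 0 := (mul_eq_zero.1 (show b * (x - w) = 0 by linear_combination e2)).resolve_right hxw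
        have hb' : b' = 0 := (mul_eq_zero.1 (show b' * (x - w) = 0 by linear_combination f2)).resolve_right hxw
        have hc : c = 0 := (mul_eq_zero.1 (show c * (x - w) = 0 by linear_combination -e3)).resolve_right hxw
        have hc' : c' = 0 := (mul_eq_zero.1 (show c' * (x - w) = 0 by linear_combination -f3)).resolve_right hxw
        subst hb hb' hc hc'
        exact ⟨by ring, by ring, by ring⟩
      · have n1 : b * c' = b' * c := mul_left_cancel₀ hz (by linear_combination c * f1 - c' * e1)
        have n3 : c * (a' - d') = c' * (a - d) :=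
          mul_left_cancel₀ hz (by linear_combination c * f3 - c' * e3)
        exact ⟨n1, mul_left_cancel₀ hz (by
          linear_combination -(a' - d') * e1 + (a - d) * f1 + y * n3), n3⟩
    · have n1 : b * c' = b' * c := mul_left_cancel₀ hy (by linear_combination b * f1 - b' * e1)
      exact ⟨n1, mul_left_cancel₀ hy (by linear_combination b' * e2 - b * f2),
        mul_left_cancel₀ hy (by linear_combination c' * e2 - c * f2 - (x - w) * n1)⟩
  refine pm_congr ?_ ?_ ?_ ?_
  · linear_combination n1
  · linear_combination -n2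
  · linear_combination n3
  · linear_combination -n1

section Triangle

variable [Finite F]

/-- Two non-commuting conjugates of elements of an abelian stabiliser with a product of the same
kind. -/
theorem abelian_triangle {H : Subgroup (PG F)} (hcomm : ∀ x ∈ H, ∀ y ∈ H, x * y = y * x)
    {u v : PG F} {a b c d a' b' c' d' : F} {h : a * d - b * c = 1} {h' : a' * d' - b' * c' = 1}
    (hu : u = pm a b c d h) (hv : v = pm a' b' c' d' h') (htu : a + d ≠ 0) (htv : a' + d' ≠ 0)
    (hinu : InH H u) (hinv : InH H v) (hinw : InH H (v⁻¹ * u)) (hne : u * v ≠ v * u) :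
    ¬ Binary H := by
  have key : ∀ {r g : PG F}, InH H r → g ∈ Ker H r → g * r = r * g := by
    intro r g hr hg
    obtain ⟨k, hk⟩ := hr.exists_conj
    have hgk := mem_conj_of_mem_ker hk hg
    have e := hcomm _ hgk _ hk
    calc g * r = k * (k⁻¹ * g * k * (k⁻¹ * r * k)) * k⁻¹ := by group
      _ = k * (k⁻¹ * r * k * (k⁻¹ * g * k)) * k⁻¹ := by rw [e]
      _ = r * g := by group
  refine not_binary_triple u v (v⁻¹ * u) (by group) hinu hinw fun g hgu hgv hgw => ?_
  have hg := cent_trivial hu hv htu htv (key hinu hgu) (key hinv hgv) hne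
  subst hg
  rw [inv_one, one_mul] at hgw
  apply hne
  have e := key hinw hgw
  calc u * v = v * (v⁻¹ * u) * v := by group
    _ = v * (u * (v⁻¹ * u)) * u⁻¹ * v := by rw [e]; group
    _ = v * u := by group

theorem cyclic_case {H : Subgroup (PG F)} [IsCyclic H] (p : ℕ) [Fact p.Prime] [CharP F p]
    (h3 : 3 ≤ Nat.card H) (hp : ¬ p ∣ Nat.card H) (hb : Binary H) :
    (2 : F) = 0 ∧ (∀ ω : F, ω ^ 2 + ω + 1 ≠ 0) ∧ Nat.card H = 3 := by
  have hcomm : ∀ x ∈ H, ∀ y ∈ H, x * y = y * x := fun x hx y hy =>
    congrArg Subtype.val (mul_comm' (⟨x, hx⟩ : H) ⟨y, hy⟩)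
  obtain ⟨g, hg⟩ := IsCyclic.exists_ofOrder_eq_natCard (α := H)
  have hord : orderOf (g : PG F) = Nat.card H := by rw [Subgroup.orderOf_coe, hg]
  obtain ⟨a, b, c, d, h, hgeq⟩ := exists_pm (g : PG F)
  have hin : InH H (pm a b c d h) := hgeq ▸ inH_of_mem g.2
  have hτ0 : a + d ≠ 0 := by
    intro e
    have : (g : PG F) ^ 2 = 1 := by
      rw [pow_two, hgeq, pm_mul, pm_eq_one_iff]
      exact ⟨by linear_combination b * e, by linear_combination c * e,
        by linear_combination (a - d) * e⟩
    have := Nat.le_of_dvd two_pos (orderOf_dvd_of_pow_eq_one this)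
    omega
  have hτ2 : (a + d) ^ 2 ≠ 4 := by
    intro e
    have := CfsgLib.Linear.PSLTwo.orderOf_dvd_of_trace_sq p
      (⟨!![a, b; c, d], by rw [Matrix.det_fin_two_of]; exact h⟩ : SG F)
      (by simpa [Matrix.trace_fin_two] using e)
    change orderOf (pm a b c d h) ∣ p at this
    rw [← hgeq, hord] at this
    rcases (Nat.dvd_prime Fact.out).1 this with e' | e'
    · omega
    · exact hp (e' ▸ dvd_rfl)
  -- the generic triangle
  have main : ∀ (a b c d : F) (h : a * d - b * c = 1), InH H (pm a b c d h) → a + d ≠ 0 →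
      (a + d) ^ 2 ≠ 4 → a + d ≠ -1 → False := by
    intro a b c d h hin hτ0 hτ2 hτ1
    obtain ⟨τ, hτ⟩ : ∃ τ, τ = a + d := ⟨_, rfl⟩
    rw [← hτ] at hτ0 hτ2 hτ1
    have hp2 : 2 + τ ≠ 0 := fun e => hτ2 (by linear_combination (τ - 2) * e)
    have hm2 : 2 - τ ≠ 0 := fun e => hτ2 (by linear_combination (-τ - 2) * e)
    obtain ⟨X, Y, hXY⟩ := exists_form 1 (-τ) 1 (-((2 - τ) * (1 + τ) / (2 + τ)))
      (fun e => hτ2 (by linear_combination e))
    field_simp at hXY
    obtain ⟨x, hx⟩ : ∃ x, x = τ / (2 + τ) + X := ⟨_, rfl⟩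
    obtain ⟨y, hy⟩ : ∃ y, y = -(τ / (2 + τ)) + Y := ⟨_, rfl⟩
    have hdet : x * (τ - x) - y * (τ + y - x * τ) = 1 := by
      rw [hx, hy]; field_simp
      linear_combination -(2 + τ) * hXY
    have hu : InH H (comp τ) :=
      inH_of_trace (h' := by ring) hin (by rw [zero_add, hτ]) (hτ ▸ hτ2)
    have hv : InH H (pm x y (τ + y - x * τ) (τ - x) hdet) :=
      inH_of_trace hin (by rw [hτ]; ring) (hτ ▸ hτ2)
    refine abelian_triangle hcomm (u := comp τ) rfl rfl (by rwa [zero_add])
      (by rwa [show x + (τ - x) = τ by ring]) hu hv ?_ ?_ hb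
    · rw [pm_inv, comp, pm_mul]
      exact inH_of_trace hin (by rw [← hτ]; ring) (hτ ▸ hτ2)
    · intro e
      obtain ⟨e1, e2, -⟩ := commute_entries e (by rwa [show x + (τ - x) = τ by ring])
      have hxx : x = τ / (2 + τ) := by
        rw [eq_div_iff hp2]
        refine mul_left_cancel₀ hm2 ?_
        linear_combination 2 * e2 - τ * e1
      have hyy : y = -(τ / (2 + τ)) := by
        rw [← neg_div, eq_div_iff hp2]
        refine mul_left_cancel₀ hm2 ?_
        linear_combination τ * e2 - 2 * e1
      have hX : X = 0 := by linear_combination hxx - hx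
      have hY : Y = 0 := by linear_combination hyy - hy
      subst hX hY
      have : (2 - τ) * (1 + τ) = 0 := by linear_combination hXY
      rcases mul_eq_zero.1 this with e' | e'
      · exact hm2 e'
      · exact hτ1 (by linear_combination e')
  by_cases hτ1 : a + d = -1
  swap
  · exact absurd hτ1 (fun _ => main a b c d h hin hτ0 hτ2 hτ1)
  have hneg : (-a) * (-d) - (-b) * (-c) = 1 := by linear_combination h
  have hin' : InH H (pm (-a) (-b) (-c) (-d) hneg) := by
    rwa [show pm (-a) (-b) (-c) (-d) hneg = pm a b c d h from pm_eq_pm_iff.2 (Or.inr ⟨rfl, rfl, rfl, rfl⟩)]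
  by_cases h2 : (2 : F) = 0
  swap
  · exfalso
    exact main _ _ _ _ hneg hin' (fun e => hτ0 (by linear_combination -e))
      (fun e => hτ2 (by linear_combination e)) fun e => h2 (by linear_combination e + hτ1)
  refine ⟨h2, fun ω hω => ?_, ?_⟩
  · have hω3 : ω * ω ^ 2 = 1 := by linear_combination (ω - 1) * hω
    have hh : ω * ω ^ 2 - 0 * 0 = 1 := by linear_combination hω3
    have hv : ω ^ 2 * ω - 1 * 0 = 1 := by linear_combination hω3
    have hu : InH H (pm ω 0 0 (ω ^ 2) hh) :=
      inH_of_trace hin (by linear_combination hτ1 - hω) hτ2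
    have hva : InH H (pm (ω ^ 2) 1 0 ω hv) :=
      inH_of_trace hin (by linear_combination hτ1 - hω) hτ2
    refine abelian_triangle hcomm (u := pm ω 0 0 (ω ^ 2) hh) rfl rfl
      (fun e => one_ne_zero (α := F) (by linear_combination hω - e))
      (fun e => one_ne_zero (α := F) (by linear_combination hω - e)) hu hva ?_ ?_ hb
    · rw [pm_inv, pm_mul]
      exact inH_of_trace hin (by linear_combination hτ1 - hω - ω * hω3) hτ2
    · intro e
      obtain ⟨-, e2, -⟩ := commute_entries e (fun e => one_ne_zero (α := F)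
        (by linear_combination hω - e))
      have : ω = 1 := by
        have h0 : ω * (ω - 1) = 0 := by linear_combination -e2
        rcases mul_eq_zero.1 h0 with e' | e'
        · exact absurd hω3 (by simp [e'])
        · exact sub_eq_zero.1 e'
      subst this
      exact one_ne_zero (α := F) (by linear_combination hω - h2)
  · have hpow : (g : PG F) ^ 3 = 1 := by
      rw [pow_succ, pow_two, hgeq, pm_mul, pm_mul, pm_eq_one_iff]
      exact ⟨by linear_combination b * (a + d - 1) * hτ1 - b * h,
        by linear_combination c * (a + d - 1) * hτ1 - c * h,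
        by linear_combination (a - d) * (a + d - 1) * hτ1 - (a - d) * h⟩
    have := Nat.le_of_dvd (by norm_num) (orderOf_dvd_of_pow_eq_one hpow)
    omega

end Triangle

section Involution

variable [Finite F]

theorem pm_sq {a b c d : F} {h : a * d - b * c = 1} (e : a + d = 0) :
    pm a b c d h * pm a b c d h = 1 := by
  rw [pm_mul, pm_eq_one_iff]
  exact ⟨by linear_combination b * e, by linear_combination c * e,
    by linear_combination (a - d) * e⟩

theorem trace_zero_of_sq (h2 : (2 : F) ≠ 0) {a b c d : F} {h : a * d - b * c = 1}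
    (hne : pm a b c d h ≠ 1) (hsq : pm a b c d h * pm a b c d h = 1) : a + d = 0 := by
  by_contra e
  rw [pm_mul, pm_eq_one_iff] at hsq
  obtain ⟨h1, h3, h5⟩ := hsq
  refine hne (pm_eq_one_iff.2 ⟨?_, ?_, ?_⟩)
  · exact (mul_eq_zero.1 (show b * (a + d) = 0 by linear_combination h1)).resolve_right e
  · exact (mul_eq_zero.1 (show c * (a + d) = 0 by linear_combination h3)).resolve_right e
  · exact sub_eq_zero.1 ((mul_eq_zero.1 (show (a - d) * (a + d) = 0 by
      linear_combination h5)).resolve_right e)

theorem conj_involution (h2 : (2 : F) ≠ 0) {u v : PG F} (hu : u ≠ 1) (hu2 : u * u = 1)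
    (hv : v ≠ 1) (hv2 : v * v = 1) : ∃ m, m * u * m⁻¹ = v := by
  obtain ⟨a, b, c, d, h, rfl⟩ := exists_pm u
  obtain ⟨a', b', c', d', h', rfl⟩ := exists_pm v
  have e := trace_zero_of_sq h2 hu hu2
  refine exists_conj_of_trace (e.trans (trace_zero_of_sq h2 hv hv2).symm) ?_
  rw [e, zero_pow two_ne_zero]
  exact fun h4 => mul_ne_zero h2 h2 (by linear_combination -h4)

/-- The centraliser of a four-group. -/
theorem cent_four (h2 : (2 : F) ≠ 0) {x y : F} {h : x * -x - y * y = 1} {g : PG F}
    (hJ : g * comp 0 = comp 0 * g)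
    (hA : g * pm x y y (-x) h = pm x y y (-x) h * g) :
    g = 1 ∨ g = comp 0 ∨ g = pm x y y (-x) h ∨ g = (comp 0)⁻¹ * pm x y y (-x) h ∨
      g = pm x y y (-x) h * comp 0 := by
  obtain ⟨a, b, c, d, hg, rfl⟩ := exists_pm g
  rw [comp, pm_mul, pm_mul, pm_eq_pm_iff] at hJ
  rw [pm_mul, pm_mul, pm_eq_pm_iff] at hA
  have hxy : ¬ (x = 0 ∧ y = 0) := fun ⟨hx, hy⟩ => by subst hx hy; simp at h
  rcases hJ with ⟨j1, j2, -, -⟩ | ⟨j1, j2, -, -⟩
  · have hc : c = -b := by linear_combination j1
    have hd : a = d := by linear_combination -j2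
    subst hc hd
    rcases hA with ⟨a1, a2, -, -⟩ | ⟨a1, a2, -, -⟩
    · left
      have hb : b = 0 := by
        by_contra hb
        refine hxy ⟨?_, ?_⟩
        · exact (mul_eq_zero.1 (show (2 * b) * x = 0 by linear_combination -a2)).resolve_left
            (mul_ne_zero h2 hb)
        · exact (mul_eq_zero.1 (show (2 * b) * y = 0 by linear_combination a1)).resolve_left
            (mul_ne_zero h2 hb)
      exact pm_eq_one_iff.2 ⟨hb, by rw [hb, neg_zero], rfl⟩
    · right; left
      have ha : a = 0 := by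
        by_contra ha
        refine hxy ⟨?_, ?_⟩
        · exact (mul_eq_zero.1 (show (2 * a) * x = 0 by linear_combination a1)).resolve_left
            (mul_ne_zero h2 ha)
        · exact (mul_eq_zero.1 (show (2 * a) * y = 0 by linear_combination a2)).resolve_left
            (mul_ne_zero h2 ha)
      subst ha
      rw [comp, pm_eq_pm_iff]
      rcases mul_self_eq_one_iff.1 (show b * b = 1 by linear_combination hg) with e | e <;>
        subst e <;> simp
  · have hc : c = b := by linear_combination -j1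
    have hd : d = -a := by linear_combination -j2
    subst hc hd
    rcases hA with ⟨a1, a2, -, -⟩ | ⟨a1, a2, -, -⟩
    · right; right; left
      have hpar : a * y = c * x := mul_left_cancel₀ h2 (by linear_combination a2)
      have hsq : (a * x + c * y) * (a * x + c * y) = 1 := by
        linear_combination (y * a - x * c) * hpar * (-1 : F) + (x * x + y * y) * hg * (-1 : F) + h
      rw [pm_eq_pm_iff]
      rcases mul_self_eq_one_iff.1 hsq with e | e
      · right
        refine ⟨?_, ?_, ?_, ?_⟩
        · linear_combination -a * h - y * hpar - x * e * (1 : F)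
        · linear_combination -c * h + x * hpar - y * e
        · linear_combination -c * h + x * hpar - y * e
        · linear_combination a * h + y * hpar + x * e
      · left
        refine ⟨?_, ?_, ?_, ?_⟩
        · linear_combination -a * h - y * hpar - x * e
        · linear_combination -c * h + x * hpar - y * e
        · linear_combination -c * h + x * hpar - y * e
        · linear_combination a * h + y * hpar + x * e
    · right; right; right; left
      have hort : a * x + c * y = 0 := mul_left_cancel₀ h2 (by linear_combination a1)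
      have hsq : (c * x - a * y) * (c * x - a * y) = 1 := by
        linear_combination (a * x + c * y) * hort * (-1 : F) + (x * x + y * y) * hg * (-1 : F) + h
      rw [comp, pm_inv, pm_mul, pm_eq_pm_iff]
      rcases mul_self_eq_one_iff.1 hsq with e | e
      · left
        refine ⟨?_, ?_, ?_, ?_⟩
        · linear_combination -a * h - x * hort + y * e
        · linear_combination -c * h - y * hort - x * e
        · linear_combination -c * h - y * hort - x * e
        · linear_combination a * h + x * hort - y * e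
      · right
        refine ⟨?_, ?_, ?_, ?_⟩
        · linear_combination -a * h - x * hort + y * e
        · linear_combination -c * h - y * hort - x * e
        · linear_combination -c * h - y * hort - x * e
        · linear_combination a * h + x * hort - y * e

/-- An involution of `H` whose centraliser in `H` has exponent two refutes binarity. -/
theorem involution_case (h2 : (2 : F) ≠ 0) (hq : 7 ≤ Nat.card F) {H : Subgroup (PG F)} {s : PG F}
    (hs : s ∈ H) (hs1 : s ≠ 1) (hs2 : s * s = 1)
    (hcent : ∀ x ∈ H, x * s = s * x → x * x = 1) : ¬ Binary H := by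
  classical
  cases nonempty_fintype F
  have hsq : ∀ {v e : PG F}, v ≠ 1 → v * v = 1 → e ∈ Ker H v → e * v = v * e → e * e = 1 := by
    intro v e hv hv2 he hev
    obtain ⟨m, hm⟩ := conj_involution h2 hs1 hs2 hv hv2
    have h1 : m⁻¹ * e * m ∈ H := mem_conj_of_mem_ker (by rw [← hm]; simpa [mul_assoc] using hs) he
    have := hcent _ h1 (by
      calc m⁻¹ * e * m * s = m⁻¹ * (e * (m * s * m⁻¹)) * m := by group
        _ = m⁻¹ * ((m * s * m⁻¹) * e) * m := by rw [hm, hev]
        _ = s * (m⁻¹ * e * m) := by group)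
    calc e * e = m * (m⁻¹ * e * m * (m⁻¹ * e * m)) * m⁻¹ := by group
      _ = 1 := by rw [this]; group
  set J : PG F := comp 0 with hJdef
  have hJ1 : J ≠ 1 := fun e => by
    rw [hJdef, comp, pm_eq_one_iff] at e
    exact one_ne_zero e.2.1
  have hJ2 : J * J = 1 := pm_sq (add_zero _)
  have hJin : InH H J := by
    obtain ⟨m, hm⟩ := conj_involution h2 hs1 hs2 hJ1 hJ2
    exact hm ▸ inH_conj m (inH_of_mem hs)
  -- an involution commuting with `J` outside its kernel
  obtain ⟨x0, y0, hxy0⟩ := exists_form (1 : F) 0 1 (-1) (fun e => mul_ne_zero h2 h2 (by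
    linear_combination -e))
  obtain ⟨t, ht0, ht1, ht2⟩ : ∃ t : F, t ≠ 0 ∧ t * t ≠ 1 ∧ t * t ≠ -1 := by
    by_contra hcon
    push Not at hcon
    have hle : (Finset.univ : Finset F) ⊆ {0, 1, -1} ∪
        Finset.univ.filter (fun t : F => t * t = -1) := by
      intro t _
      by_cases ht : t = 0
      · simp [ht]
      by_cases ht1 : t * t = 1
      · rcases mul_self_eq_one_iff.1 ht1 with e | e <;> simp [e]
      · simp [hcon t ht ht1]
    have h1 : ({0, 1, -1} : Finset F).card ≤ 3 := Finset.card_le_three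
    have h3 : (Finset.univ.filter (fun t : F => t * t = -1)).card ≤ 2 := by
      by_cases he : ∃ i : F, i * i = -1
      · obtain ⟨i, hi⟩ := he
        refine (Finset.card_le_card (t := {i, -i}) fun t ht => ?_).trans Finset.card_le_two
        rw [Finset.mem_filter] at ht
        rcases mul_self_eq_mul_self_iff.1 (ht.2.trans hi.symm) with e | e <;> simp [e]
      · rw [Finset.card_eq_zero.2 (Finset.filter_eq_empty_iff.2 fun t _ e => he ⟨t, e⟩)]
        norm_num
    have := (Finset.card_le_card hle).trans (Finset.card_union_le _ _)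
    rw [Finset.card_univ, ← Nat.card_eq_fintype_card] at this
    omega
  have hd : 1 + t * t ≠ 0 := fun e => ht2 (by linear_combination e)
  set C : F := (1 - t * t) / (1 + t * t) with hC
  set S : F := 2 * t / (1 + t * t) with hS
  have hCS : C * C - -S * S = 1 := by
    have e1 : C * (1 + t * t) = 1 - t * t := div_mul_cancel₀ _ hd
    have e2 : S * (1 + t * t) = 2 * t := div_mul_cancel₀ _ hd
    apply mul_left_cancel₀ (mul_ne_zero hd hd)
    linear_combination (C * (1 + t * t) + (1 - t * t)) * e1 + (S * (1 + t * t) + 2 * t) * e2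
  have hC0 : C ≠ 0 := div_ne_zero (fun e => ht1 (by linear_combination -e)) hd
  have hS0 : S ≠ 0 := div_ne_zero (mul_ne_zero h2 ht0) hd
  set R : PG F := pm C (-S) S C hCS with hR
  obtain ⟨x, y, hxy, hout⟩ : ∃ (x y : F) (hxy : x * -x - y * y = 1),
      pm x y y (-x) hxy ∉ Ker H J := by
    have h0 : x0 * -x0 - y0 * y0 = 1 := by linear_combination -hxy0
    by_cases hk : pm x0 y0 y0 (-x0) h0 ∈ Ker H J
    swap
    · exact ⟨x0, y0, h0, hk⟩
    have h1 : (C * x0 - S * y0) * -(C * x0 - S * y0) -
        (C * y0 + S * x0) * (C * y0 + S * x0) = 1 := by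
      linear_combination (C * C + S * S) * h0 + hCS
    refine ⟨C * x0 - S * y0, C * y0 + S * x0, h1, fun hk' => ?_⟩
    have hRk : R ∈ Ker H J := by
      have : R = pm (C * x0 - S * y0) (C * y0 + S * x0) (C * y0 + S * x0)
          (-(C * x0 - S * y0)) h1 * (pm x0 y0 y0 (-x0) h0)⁻¹ := by
        rw [eq_mul_inv_iff_mul_eq, hR, pm_mul]
        exact pm_congr (by ring) (by ring) (by ring) (by ring)
      rw [this]
      exact (Ker H J).mul_mem hk' ((Ker H J).inv_mem hk)
    have hRR := hsq hJ1 hJ2 hRk (by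
      rw [hR, hJdef, comp, pm_mul, pm_mul]
      exact pm_congr (by ring) (by ring) (by ring) (by ring))
    rw [hR, pm_mul, pm_eq_one_iff] at hRR
    exact mul_ne_zero (mul_ne_zero h2 hC0) hS0 (by linear_combination hRR.2.1)
  set A : PG F := pm x y y (-x) hxy with hA
  have hA1 : A ≠ 1 := fun e => hout (e ▸ (Ker H J).one_mem)
  have hA2 : A * A = 1 := pm_sq (add_neg_cancel x)
  have hJA : J * A = A * J := by
    rw [hJdef, hA, comp, pm_mul, pm_mul, pm_eq_pm_iff]
    right
    exact ⟨by ring, by ring, by ring, by ring⟩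
  have hJi : J⁻¹ = J := inv_eq_of_mul_eq_one_right hJ2
  have hAi : A⁻¹ = A := inv_eq_of_mul_eq_one_right hA2
  set B : PG F := A * J with hB
  have hBout : B ∉ Ker H J := fun hk => hout (by
    have := (Ker H J).mul_mem hk (mem_ker_self J)
    rwa [hB, mul_assoc, hJ2, mul_one] at this)
  have hB1 : B ≠ 1 := fun e => hBout (e ▸ (Ker H J).one_mem)
  have hB2 : B * B = 1 := by
    calc B * B = A * (J * A) * J := by rw [hB]; group
      _ = A * (A * J) * J := by rw [hJA]
      _ = A * A * (J * J) := by group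
      _ = 1 := by rw [hA2, hJ2, one_mul]
  have hBA : B * A = A * B := by rw [hB, mul_assoc, hJA]
  have hBJ : B * J = J * B := by rw [hB, ← mul_assoc, hJA]
  -- the fixed point sets differ
  have hnot : ∀ v : PG F, v ≠ 1 → v * v = 1 → v ∉ Ker H J → J ∉ Ker H v := by
    intro v hv hv2 hvout hJv
    obtain ⟨m, hm⟩ := conj_involution h2 hJ1 hJ2 hv hv2
    have hcard : {z : PG F ⧸ H | v • z = z}.ncard = {z : PG F ⧸ H | J • z = z}.ncard := by
      rw [← Set.ncard_image_of_injective {z : PG F ⧸ H | J • z = z} (MulAction.injective m)]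
      congr 1
      ext z
      simp only [Set.mem_image, Set.mem_setOf_eq]
      rw [← hm, conj_smul_eq_iff]
      constructor
      · exact fun e => ⟨m⁻¹ • z, e, smul_inv_smul _ _⟩
      · rintro ⟨w, hw, rfl⟩
        rwa [inv_smul_smul]
    have heq := Set.eq_of_subset_of_ncard_le (fun z hz => hJv z hz) hcard.ge (Set.toFinite _)
    exact hvout fun z hz => (heq.ge hz : z ∈ {z : PG F ⧸ H | v • z = z})
  have hJA' : J ∉ Ker H A := hnot A hA1 hA2 hout
  have hJB' : J ∉ Ker H B := hnot B hB1 hB2 hBout
  have hcent : ∀ f : PG F, f * J = J * f → f * A = A * f → f = 1 ∨ f = J ∨ f = A ∨ f = B := by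
    intro f hfJ hfA
    rcases cent_four h2 (h := hxy) hfJ hfA with e | e | e | e | e
    · exact Or.inl e
    · exact Or.inr (Or.inl e)
    · exact Or.inr (Or.inr (Or.inl e))
    · refine Or.inr (Or.inr (Or.inr ?_))
      rw [e, ← hJdef, ← hA, hJi, hB, hJA]
    · exact Or.inr (Or.inr (Or.inr e))
  set E : Subgroup (PG F) := Ker H J ⊓ Ker H A ⊓ Ker H B with hE
  have hEV : ∀ f ∈ E, f * J = J * f → f * A = A * f → f = 1 := by
    intro f hf hfJ hfA
    rcases hcent f hfJ hfA with e | e | e | e
    · exact e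
    · exact absurd (e ▸ hf.1.2) hJA'
    · exact absurd (e ▸ hf.1.1) hout
    · exact absurd (e ▸ hf.1.1) hBout
  have hnorm : ∀ v : PG F, v * J = J * v → v * A = A * v → ∀ f ∈ E, v * f * v⁻¹ ∈ E := by
    intro v hvJ hvA f hf
    refine ⟨⟨mem_ker_conj_of_comm v hvJ hf.1.1, mem_ker_conj_of_comm v hvA hf.1.2⟩,
      mem_ker_conj_of_comm v ?_ hf.2⟩
    rw [hB, ← mul_assoc, hvA, mul_assoc, hvJ, ← mul_assoc]
  -- no non-trivial element of `E` centralises one of the three involutions
  have hfix : ∀ v w : PG F, v ≠ 1 → v * v = 1 → (∀ f ∈ E, f ∈ Ker H v) → v * w = w * v →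
      w * w = 1 → (∀ f ∈ E, w * f * w⁻¹ ∈ E) →
      (∀ f : PG F, f * v = v * f → f * w = w * f → f * J = J * f ∧ f * A = A * f) →
      ∀ e ∈ E, e * v = v * e → e = 1 := by
    intro v w hv hv2 hEv hvw hw2 hwE hgen e he hev
    have hwi : w⁻¹ = w := inv_eq_of_mul_eq_one_right hw2
    have he' := hwE e he
    rw [hwi] at he'
    have hev' : w * e * w * v = v * (w * e * w) := by
      calc w * e * w * v = w * e * (w * v) := by group
        _ = w * e * (v * w) := by rw [hvw]
        _ = w * (e * v) * w := by group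
        _ = w * (v * e) * w := by rw [hev]
        _ = (w * v) * e * w := by group
        _ = (v * w) * e * w := by rw [hvw]
        _ = v * (w * e * w) := by group
    have hp := E.mul_mem he he'
    have hpv : e * (w * e * w) * v = v * (e * (w * e * w)) := by
      rw [mul_assoc, hev', ← mul_assoc, hev, mul_assoc]
    have h1 := hsq hv hv2 (hEv e he) hev
    have h3 := hsq hv hv2 (hEv _ hp) hpv
    have hwe : (w * e * w) * (w * e * w) = 1 := by
      calc (w * e * w) * (w * e * w) = w * e * (w * w) * e * w := by group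
        _ = w * (e * e) * w := by rw [hw2]; group
        _ = 1 := by rw [h1, mul_one, hw2]
    -- `p = e * (w e w)` is fixed by conjugation with `w`
    have hpw : e * (w * e * w) * w = w * (e * (w * e * w)) := by
      have e1 : (e * (w * e * w))⁻¹ = (w * e * w) * e := by
        rw [mul_inv_rev, inv_eq_of_mul_eq_one_right h1, inv_eq_of_mul_eq_one_right hwe]
      rw [inv_eq_of_mul_eq_one_right h3] at e1
      calc e * (w * e * w) * w = (w * e * w) * e * w := by rw [e1]
        _ = w * (e * (w * e * w)) := by group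
    have hp1 : e * (w * e * w) = 1 := by
      obtain ⟨g1, g2⟩ := hgen _ hpv hpw
      exact hEV _ hp g1 g2
    have hee : w * e * w = e := by
      rw [eq_inv_of_mul_eq_one_right hp1, inv_eq_of_mul_eq_one_right h1]
    have hew : e * w = w * e := by
      calc e * w = (w * e * w) * w := by rw [hee]
        _ = w * e * (w * w) := by group
        _ = w * e := by rw [hw2, mul_one]
    obtain ⟨g1, g2⟩ := hgen _ hev hew
    exact hEV _ he g1 g2
  have hEJ := hfix J A hJ1 hJ2 (fun f hf => hf.1.1) hJA hA2 (hnorm A hJA.symm rfl)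
    (fun f a b => ⟨a, b⟩)
  have hEA := hfix A J hA1 hA2 (fun f hf => hf.1.2) hJA.symm hJ2 (hnorm J rfl hJA)
    (fun f a b => ⟨b, a⟩)
  have hEB := hfix B A hB1 hB2 (fun f hf => hf.2) hBA hA2 (hnorm A hJA.symm rfl)
    (fun f a b => ⟨by
      rw [show J = A * B by rw [hB, ← mul_assoc, hA2, one_mul], ← mul_assoc, b, mul_assoc, a,
        ← mul_assoc], b⟩)
  have hinv : ∀ v : PG F, (∀ f ∈ E, v * f * v⁻¹ ∈ E) → v * v = 1 →
      (∀ e ∈ E, e * v = v * e → e = 1) → ∀ f ∈ E, v * f * v⁻¹ = f⁻¹ := by
    intro v hvE hv2 hfp f hf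
    let φ : E →* E :=
      { toFun := fun e => ⟨v * e * v⁻¹, hvE e e.2⟩
        map_one' := Subtype.ext (by simp)
        map_mul' := fun a b => Subtype.ext (by simp [mul_assoc]) }
    have hφ : MonoidHom.FixedPointFree φ := fun e he => Subtype.ext (hfp e e.2 (by
      have := congrArg Subtype.val he
      exact (mul_inv_eq_iff_eq_mul.1 this).symm))
    have hinvol : Function.Involutive φ := fun e => Subtype.ext (by
      show v * (v * e * v⁻¹) * v⁻¹ = e
      calc v * (v * (e : PG F) * v⁻¹) * v⁻¹ = v * v * e * (v * v)⁻¹ := by group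
        _ = e := by rw [hv2]; simp)
    exact congrArg Subtype.val (congrFun (hφ.coe_eq_inv_of_involutive hinvol) ⟨f, hf⟩)
  have hE1 : ∀ f ∈ E, f = 1 := by
    intro f hf
    refine hEB f hf ?_
    have i1 := hinv J (hnorm J rfl hJA) hJ2 hEJ
    have i2 := hinv A (hnorm A hJA.symm rfl) hA2 hEA
    have : B * f * B⁻¹ = f := by
      rw [hB, show A * J * f * (A * J)⁻¹ = A * (J * f * J⁻¹) * A⁻¹ by group, i1 f hf,
        i2 _ (E.inv_mem hf), inv_inv]
    exact (mul_inv_eq_iff_eq_mul.1 this).symm
  refine not_binary_triple J A B (by rw [hB, ← mul_assoc, hA2, one_mul]) hJin ?_ ?_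
  · obtain ⟨m, hm⟩ := conj_involution h2 hs1 hs2 hB1 hB2
    exact hm ▸ inH_conj m (inH_of_mem hs)
  intro g hgJ hgA hgB
  have hcomm : ∀ v : PG F, v * J = J * v → v * A = A * v → v * g * v⁻¹ = g := by
    intro v hvJ hvA
    have hvB : v * B = B * v := by rw [hB, ← mul_assoc, hvA, mul_assoc, hvJ, ← mul_assoc]
    have h1 : g⁻¹ * (v * g * v⁻¹) ∈ E := by
      refine ⟨⟨(Ker H J).mul_mem ((Ker H J).inv_mem hgJ) (mem_ker_conj_of_comm v hvJ hgJ),
        (Ker H A).mul_mem ((Ker H A).inv_mem hgA) (mem_ker_conj_of_comm v hvA hgA)⟩, ?_⟩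
      have := (Ker H B).mul_mem hgB ((Ker H B).inv_mem (mem_ker_conj_of_comm v hvB hgB))
      convert this using 1
      rw [show (v * (g⁻¹ * J) * v⁻¹)⁻¹ = (v * g⁻¹ * (J * v⁻¹))⁻¹ by group,
        show J * v⁻¹ = v⁻¹ * J by
          calc J * v⁻¹ = v⁻¹ * (v * J) * v⁻¹ := by group
            _ = v⁻¹ * (J * v) * v⁻¹ := by rw [hvJ]
            _ = v⁻¹ * J := by group]
      group
      exact Iff.rfl
    exact (inv_mul_eq_one.1 (hE1 _ h1)).symm
  have hgJ' : g * J = J * g := (mul_inv_eq_iff_eq_mul.1 (hcomm J rfl hJA)).symm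
  have hgA' : g * A = A * g := (mul_inv_eq_iff_eq_mul.1 (hcomm A hJA.symm rfl)).symm
  rcases hcent g hgJ' hgA' with rfl | rfl | rfl | rfl
  · rw [inv_one, one_mul] at hgB
    exact hJB' hgB
  · exact hJA' hgA
  · exact hout hgJ
  · exact hBout hgJ

end Involution

end CfsgLib.PSLBinary
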