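import Cfsg.Agent.PSLBinary.Sylow
import Cfsg.Agent.PSLBinary.Semisimple

/-!
The binary coset actions of `PSL₂(q)`.
-/

set_option autoImplicit false
set_option linter.unusedSectionVars false
set_option maxHeartbeats 1000000

namespace CfsgLib.PSLBinary

theorem binary_bot {G : Type*} [Group G] : Binary (⊥ : Subgroup G) :=
  binary_of_ti (fun _ hh hne => absurd (Subgroup.mem_bot.1 hh) hne)
    fun _ hh hne => absurd (Subgroup.mem_bot.1 hh) hne

theorem no_omega_iff {F : Type*} [Field F] [Fintype F] {a : ℕ} (ha : Fintype.card F = 2 ^ a) :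
    (∀ ω : F, ω ^ 2 + ω + 1 ≠ 0) ↔ Odd a := by
  classical
  have hcard : Nat.card Fˣ = 2 ^ a - 1 := by
    rw [Nat.card_units, Nat.card_eq_fintype_card, ha]
  have hmod : (2 ^ a - 1) % 3 = 0 ↔ Even a := by
    rcases Nat.even_or_odd a with ⟨m, rfl⟩ | ⟨m, rfl⟩
    · have : (2 ^ (m + m)) % 3 = 1 := by
        rw [← two_mul, pow_mul, Nat.pow_mod]; norm_num
      exact ⟨fun _ => ⟨m, rfl⟩, fun _ => by omega⟩
    · have : (2 ^ (2 * m + 1)) % 3 = 2 := by
        rw [pow_succ, pow_mul, Nat.mul_mod, Nat.pow_mod]; norm_num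
      have hne : ¬ Even (2 * m + 1) := Nat.not_even_iff_odd.2 ⟨m, rfl⟩
      exact ⟨fun h => by exfalso; generalize 2 ^ (2 * m + 1) = N at *; omega, fun h => absurd h hne⟩
  have h2 : (2 : F) = 0 := by
    have hc : ((2 ^ a : ℕ) : F) = 0 := by rw [← ha]; exact FiniteField.cast_card_eq_zero F
    push_cast at hc
    exact pow_eq_zero_iff (M₀ := F) (by
      rintro rfl
      simp at hc) |>.1 hc
  constructor
  · intro h
    by_contra hodd
    have h3 : 3 ∣ Nat.card Fˣ := by
      rw [hcard]
      exact Nat.dvd_of_mod_eq_zero (hmod.2 (Nat.not_odd_iff_even.1 hodd))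
    have : Fact (Nat.Prime 3) := ⟨Nat.prime_three⟩
    obtain ⟨u, hu⟩ := exists_prime_orderOf_dvd_card' (G := Fˣ) 3 h3
    refine h (u : F) ?_
    have h1 : (u : F) ^ 3 = 1 := by
      rw [← Units.val_pow_eq_pow_val, ← hu, pow_orderOf_eq_one, Units.val_one]
    have hne : (u : F) - 1 ≠ 0 := sub_ne_zero.2 fun e => by
      rw [Units.val_eq_one.1 e, orderOf_one] at hu
      omega
    exact (mul_eq_zero.1 (show ((u : F) - 1) * ((u : F) ^ 2 + u + 1) = 0 by
      linear_combination h1)).resolve_left hne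
  · intro hodd ω hω
    have hω3 : ω ^ 3 = 1 := by linear_combination (ω - 1) * hω
    have hω0 : ω ≠ 0 := fun e => by rw [e] at hω3; simp at hω3
    have hω1 : ω ≠ 1 := fun e => one_ne_zero (α := F) (by rw [e] at hω; linear_combination hω - h2)
    have hu : orderOf (Units.mk0 ω hω0) = 3 := by
      have : Fact (Nat.Prime 3) := ⟨Nat.prime_three⟩
      refine orderOf_eq_prime (Units.ext ?_) fun e => hω1 ?_
      · simpa using hω3
      · simpa using congrArg Units.val e
    have h3 : 3 ∣ Nat.card Fˣ := hu ▸ orderOf_dvd_natCard _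
    rw [hcard] at h3
    exact Nat.not_even_iff_odd.2 hodd (hmod.1 (Nat.mod_eq_zero_of_dvd h3))

variable {F : Type*} [Field F] [Finite F]

theorem binary_three (h2 : (2 : F) = 0) (hω : ∀ ω : F, ω ^ 2 + ω + 1 ≠ 0) (H : Subgroup (PG F))
    (h3 : Nat.card H = 3) : Binary H := by
  have : Fact (Nat.Prime 3) := ⟨Nat.prime_three⟩
  have htr : ∀ {a b c d : F} {h : a * d - b * c = 1}, InH H (pm a b c d h) →
      pm a b c d h ≠ 1 → a + d = 1 := by
    intro a b c d h hin hne
    obtain ⟨k, hk⟩ := hin.exists_conj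
    have hk3 : (k⁻¹ * pm a b c d h * k) ^ 3 = 1 := by
      have := congrArg Subtype.val (pow_card_eq_one' (G := H) (x := ⟨_, hk⟩))
      rw [h3] at this
      simpa using this
    have h3' : pm a b c d h * pm a b c d h * pm a b c d h = 1 := by
      calc pm a b c d h * pm a b c d h * pm a b c d h
          = k * (k⁻¹ * pm a b c d h * k) ^ 3 * k⁻¹ := by rw [pow_succ, pow_two]; group
        _ = 1 := by rw [hk3]; group
    rw [pm_mul, pm_mul, pm_eq_one_iff] at h3'
    obtain ⟨e1, e2, e3⟩ := h3'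
    by_contra hτ
    have hτ2 : (a + d) * (a + d) - 1 ≠ 0 := fun e => hτ (by
      exact sub_eq_zero.1 (mul_self_eq_zero.1 (show (a + d - 1) * (a + d - 1) = 0 by
        linear_combination e - (a + d - 1) * h2)))
    refine hne (pm_eq_one_iff.2 ⟨?_, ?_, ?_⟩)
    · exact (mul_eq_zero.1 (show b * ((a + d) * (a + d) - 1) = 0 by
        linear_combination e1 + b * h)).resolve_right hτ2
    · exact (mul_eq_zero.1 (show c * ((a + d) * (a + d) - 1) = 0 by
        linear_combination e2 + c * h)).resolve_right hτ2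
    · exact sub_eq_zero.1 ((mul_eq_zero.1 (show (a - d) * ((a + d) * (a + d) - 1) = 0 by
        linear_combination e3 + (a - d) * h)).resolve_right hτ2)
  refine binary_of_ti ?_ ?_
  · intro h hh hne d hd g hg
    have hz : Subgroup.zpowers (⟨h, hh⟩ : H) = ⊤ :=
      zpowers_eq_top_of_prime_card h3 fun e => hne (congrArg Subtype.val e)
    obtain ⟨n, hn⟩ := Subgroup.mem_zpowers_iff.1 (hz ▸ Subgroup.mem_top (⟨g, hg⟩ : H))
    have hn' : h ^ n = g := by simpa using congrArg Subtype.val hn
    rw [← hn', show d⁻¹ * h ^ n * d = (d⁻¹ * h * d) ^ n by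
      rw [← MulAut.conj_symm_apply, ← MulAut.conj_symm_apply, map_zpow]]
    exact H.zpow_mem hd n
  · intro h hh hne a ha1 hain hha1 hha
    obtain ⟨p, q, r, s, hd, hpm⟩ := exists_pm h
    have ht : p + s = 1 := htr (hpm ▸ inH_of_mem hh) (hpm ▸ hne)
    obtain ⟨m, hm⟩ := exists_conj_comp (h := hd) (by
      rw [ht]
      exact fun e => one_ne_zero (α := F) (by linear_combination e + 2 * h2))
    rw [ht, ← hpm] at hm
    obtain ⟨x, y, z, w, hd', hxm⟩ := exists_pm (m⁻¹ * a * m)
    have ea : a = m * pm x y z w hd' * m⁻¹ := by rw [← hxm]; group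
    have hc1 : comp (1 : F) = m⁻¹ * h * m := by rw [← hm]; group
    have t1 : x + w = 1 := by
      refine htr ?_ fun e => ha1 (by rw [ea, e]; group)
      rw [← hxm]
      simpa using inH_conj m⁻¹ hain
    have hprod : comp (1 : F) * pm x y z w hd' = m⁻¹ * (h * a) * m := by
      rw [hc1, ← hxm]; group
    have hin2 : InH H (comp (1 : F) * pm x y z w hd') := by
      rw [hprod]; simpa using inH_conj m⁻¹ hha
    have hne2 : comp (1 : F) * pm x y z w hd' ≠ 1 := fun e => hha1 (by
      rw [hprod] at e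
      calc h * a = m * (m⁻¹ * (h * a) * m) * m⁻¹ := by group
        _ = 1 := by rw [e]; group)
    rw [comp, pm_mul] at hin2 hne2
    have t2 := htr hin2 hne2
    obtain ⟨hx0, hy0⟩ : x = 0 ∧ y + 1 = 0 := by
      have hQ : x ^ 2 + x * (y + 1) + (y + 1) ^ 2 = 0 := by
        linear_combination -hd' + x * t1 + y * t2 - y * t1 + (x * y + x + y) * h2
      by_cases hy : y + 1 = 0
      · rw [hy] at hQ
        exact ⟨(pow_eq_zero_iff two_ne_zero).1 (by linear_combination hQ), hy⟩
      · exfalso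
        refine hω (x / (y + 1)) ?_
        field_simp
        linear_combination hQ
    have hy' : y = -1 := by linear_combination hy0
    subst hx0 hy'
    have hw : w = 1 := by linear_combination t1
    subst hw
    have : pm 0 (-1) z 1 hd' = comp (1 : F) :=
      pm_congr rfl rfl (by linear_combination hd') rfl
    have hah : a = h := by rw [ea, this, hm]
    exact hah ▸ hh

theorem main [Fintype F] (h4 : 4 ≤ Fintype.card F) (h5 : Fintype.card F ≠ 5)
    (H : Subgroup (PG F)) (hH : H ≠ ⊤) :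
    Binary H ↔ (H = ⊥ ∨ ((∃ a : ℕ, Fintype.card F = 2 ^ a) ∧ ∃ P : Sylow 2 (PG F), H = P) ∨
        ((∃ a : ℕ, Odd a ∧ Fintype.card F = 2 ^ a) ∧ Nat.card H = 3)) := by
  have : Fact (4 ≤ Nat.card F) := ⟨by rwa [Nat.card_eq_fintype_card]⟩
  obtain ⟨p, hchar⟩ := CharP.exists F
  obtain ⟨n, hpp, hn⟩ := FiniteField.card F p
  have := Fact.mk hpp
  have hpow2 : ∀ a : ℕ, Fintype.card F = 2 ^ a → p = 2 := by
    intro a ha
    rw [hn] at ha
    exact (Nat.prime_dvd_prime_iff_eq hpp Nat.prime_two).1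
      (hpp.dvd_of_dvd_pow (ha ▸ dvd_pow_self p n.pos.ne'))
  have h2iff : (2 : F) = 0 → p = 2 := fun e =>
    (Nat.prime_dvd_prime_iff_eq hpp Nat.prime_two).1
      ((CharP.cast_eq_zero_iff F p 2).1 (by exact_mod_cast e))
  constructor
  · intro hb
    by_cases hdvd : p ∣ Nat.card H
    · obtain ⟨hp2, P, hP⟩ := of_dvd p H hH hdvd hb
      subst hp2
      exact Or.inr (Or.inl ⟨⟨n, hn⟩, P, hP⟩)
    have inv : ∀ s : H, s ≠ 1 → s * s = 1 → (∀ x : H, x * s = s * x → x * x = 1) →
        2 ∣ Nat.card H → False := by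
      intro s hs1 hs2 hc hev
      have hp2 : p ≠ 2 := fun e => hdvd (e ▸ hev)
      have h2 : (2 : F) ≠ 0 := fun e => hp2 (h2iff e)
      have hq : 7 ≤ Nat.card F := by
        rw [Nat.card_eq_fintype_card]
        have : Fintype.card F % 2 = 1 := by
          rw [hn]; exact Nat.odd_iff.1 ((hpp.odd_of_ne_two hp2).pow)
        omega
      exact involution_case h2 hq s.2 (fun e => hs1 (Subtype.ext e))
        (congrArg Subtype.val hs2)
        (fun x hx e => congrArg Subtype.val (hc ⟨x, hx⟩ (Subtype.ext e))) hb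
    have trans_iso : ∀ {K : Type} [Group K] (e : H ≃* K) (k : K), k ≠ 1 → k * k = 1 →
        (∀ y : K, y * k = k * y → y * y = 1) → 2 ∣ Nat.card H → False := by
      intro K _ e k hk1 hk2 hc hev
      refine inv (e.symm k) (fun h => hk1 (by simpa using congrArg e h))
        (by rw [← map_mul, hk2, map_one]) (fun x hx => ?_) hev
      apply e.injective
      rw [map_mul, map_one]
      exact hc _ (by simpa using congrArg e hx)
    rcases CfsgLib.Linear.PSLTwo.proper_cases p H hH with ⟨P, hd, -⟩ | ⟨hcyc, -, -⟩ |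
      ⟨k, hk, -, -, hc, ⟨e⟩⟩ | ⟨h5', hc, ⟨e⟩⟩ | ⟨h5', hc, ⟨e⟩⟩ | ⟨h2', h5', hc, ⟨e⟩⟩ |
      ⟨f, m, hf, -, -, hc⟩
    · exact absurd hd hdvd
    · rcases lt_or_ge (Nat.card H) 3 with hlt | hge
      · have hpos : 0 < Nat.card H := Nat.card_pos
        rcases (show Nat.card H = 1 ∨ Nat.card H = 2 by omega) with h1 | h1
        · exact Or.inl (Subgroup.card_eq_one.1 h1)
        · exfalso
          have : Nontrivial H := Finite.one_lt_card_iff_nontrivial.1 (by omega)
          obtain ⟨s, hs⟩ := exists_ne (1 : H)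
          have hsq : ∀ x : H, x * x = 1 := fun x => by
            have := pow_card_eq_one' (G := H) (x := x)
            rwa [h1, pow_two] at this
          exact inv s hs (hsq s) (fun x _ => hsq x) ⟨1, by omega⟩
      · obtain ⟨h2, hω, hc3⟩ := cyclic_case (H := H) p hge hdvd hb
        have hp2 := h2iff h2
        subst hp2
        exact Or.inr (Or.inr ⟨⟨n, (no_omega_iff hn).1 hω, hn⟩, hc3⟩)
    · exfalso
      refine trans_iso e (DihedralGroup.sr 0) (fun h => by cases h) (DihedralGroup.sr_mul_self 0)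
        ?_ ⟨k, hc⟩
      rintro (i | i) hy
      · rw [DihedralGroup.r_mul_sr, DihedralGroup.sr_mul_r] at hy
        injection hy with hy'
        rw [DihedralGroup.r_mul_r, DihedralGroup.one_def]
        congr 1
        linear_combination -hy'
      · exact DihedralGroup.sr_mul_self i
    · exfalso
      refine trans_iso e ⟨Equiv.swap 0 1 * Equiv.swap 2 3,
        Equiv.Perm.mem_alternatingGroup.2 (by decide +kernel)⟩ (by decide +kernel)
        (by decide +kernel) (by decide +kernel) ⟨6, hc⟩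
    · exfalso
      refine trans_iso e (Equiv.swap 0 1) (by decide +kernel) (by decide +kernel)
        (by decide +kernel) ⟨12, hc⟩
    · exfalso
      refine trans_iso e ⟨Equiv.swap 0 1 * Equiv.swap 2 3,
        Equiv.Perm.mem_alternatingGroup.2 (by decide +kernel)⟩ (by decide +kernel)
        (by decide +kernel) (by decide +kernel) ⟨30, hc⟩
    · exfalso
      refine hdvd ?_
      rcases hc with ⟨hc, -⟩ | ⟨hp2, hc, -⟩
      · rw [hc]
        exact Dvd.dvd.mul_right (dvd_pow_self p (by omega)) _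
      · refine ((Nat.coprime_primes hpp Nat.prime_two).2 hp2).dvd_of_dvd_mul_left ?_
        rw [hc]
        exact Dvd.dvd.mul_right (dvd_pow_self p (by omega)) _
  · rintro (rfl | ⟨⟨a, ha⟩, P, rfl⟩ | ⟨⟨a, hodd, ha⟩, h3⟩)
    · exact binary_bot
    · have hp2 := hpow2 a ha
      subst hp2
      exact binary_sylow_two P
    · have hp2 := hpow2 a ha
      subst hp2
      exact binary_three (by exact_mod_cast CharP.cast_eq_zero F 2) ((no_omega_iff ha).2 hodd) H h3

end CfsgLib.PSLBinary
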